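import Mathlib
import Cfsg.Agent.H67.SECount

/-!
Groups with abelian centralisers of involutions: the strongly embedded Sylow normaliser.
-/

set_option autoImplicit false
set_option maxHeartbeats 800000

namespace H39.AIC

open Subgroup

/-- Centralisers of involutions are abelian and the Sylow 2-subgroup `T` is neither cyclic nor normal. -/
structure Data {G : Type*} [Group G] (T : Sylow 2 G) : Prop where
  nc : ¬ IsCyclic (T : Subgroup G)
  nn : ¬ (T : Subgroup G).Normal
  cent : ∀ t : G, orderOf t = 2 → IsMulCommutative (Subgroup.centralizer ({t} : Set G))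

/-- The centraliser of `T`. -/
abbrev cT {G : Type*} [Group G] (T : Sylow 2 G) : Subgroup G :=
  Subgroup.centralizer ((T : Subgroup G) : Set G)

/-- The normaliser of `T`. -/
abbrev nT {G : Type*} [Group G] (T : Sylow 2 G) : Subgroup G :=
  Subgroup.normalizer ((T : Subgroup G) : Set G)

theorem invol_of_even {G : Type*} [Group G] [Finite G] {K : Subgroup G} (h : Even (Nat.card K)) :
    ∃ t ∈ K, orderOf t = 2 :=
  H65.exists_two_mem h

theorem odd_iff_no_invol {G : Type*} [Group G] [Finite G] {K : Subgroup G} :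
    Odd (Nat.card K) ↔ ∀ t ∈ K, orderOf t ≠ 2 := by
  constructor
  · intro h t ht h2
    exact Nat.not_even_iff_odd.2 h (H65.even_card_of_mem ht h2)
  · intro h
    rw [← Nat.not_even_iff_odd]
    intro he
    obtain ⟨t, ht, h2⟩ := invol_of_even he
    exact h t ht h2

/-- A fixed-point-free involution inverts a subgroup of odd order. -/
theorem inverts_of_fpf {G : Type*} [Group G] [Finite G] (K : Subgroup G) {u : G} (hu : u * u = 1)
    (hK : ∀ a ∈ K, u * a * u ∈ K) (hfree : ∀ a ∈ K, u * a = a * u → a = 1) {a : G} (ha : a ∈ K) :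
    u * a * u = a⁻¹ := by
  let f : K → K := fun a => a⁻¹ * ⟨u * (a : G) * u, hK a a.2⟩
  have hinj : Function.Injective f := by
    intro x y h
    have h' : (x : G)⁻¹ * (u * x * u) = (y : G)⁻¹ * (u * y * u) := congrArg Subtype.val h
    refine Subtype.ext (mul_inv_eq_one.1 (hfree ((x : G) * (y : G)⁻¹) (mul_mem x.2 (inv_mem y.2)) ?_))
    have h2 : (y : G) * (x : G)⁻¹ * (u * x * u) = u * y * u := by
      rw [mul_assoc, h', mul_inv_cancel_left]
    have h3 : (u * (y : G) * u) = ((x : G) * (y : G)⁻¹)⁻¹ * (u * x * u) := by rw [mul_inv_rev, inv_inv, h2]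
    have h4 : (x : G) * (y : G)⁻¹ = (u * x * u) * (u * y * u)⁻¹ := by rw [h3]; simp [mul_assoc]
    have hui : u⁻¹ = u := inv_eq_of_mul_eq_one_right hu
    have h5 : (u * (x : G) * u) * (u * y * u)⁻¹ = u * ((x : G) * (y : G)⁻¹) * u⁻¹ := by
      simp [mul_assoc]
    rw [h5] at h4
    exact (mul_inv_eq_iff_eq_mul.1 h4.symm)
  obtain ⟨b, hb⟩ := (Finite.injective_iff_surjective.1 hinj) ⟨a, ha⟩
  have hb' : (b : G)⁻¹ * (u * b * u) = a := congrArg Subtype.val hb
  have hui : u⁻¹ = u := inv_eq_of_mul_eq_one_right hu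
  rw [← hb']
  calc u * ((b : G)⁻¹ * (u * b * u)) * u = u * (b : G)⁻¹ * u * b * (u * u) := by simp [mul_assoc]
    _ = ((b : G)⁻¹ * (u * b * u))⁻¹ := by simp [hu, hui, mul_assoc]

variable {G : Type*} [Group G] [Finite G] {T : Sylow 2 G}

theorem Data.T_ne_bot (hd : Data T) : (T : Subgroup G) ≠ ⊥ := by
  intro e
  apply hd.nc
  rw [e]
  infer_instance

theorem comm_of {a b t : G} (hC : IsMulCommutative (Subgroup.centralizer ({t} : Set G)))
    (ha : a * t = t * a) (hb : b * t = t * b) : a * b = b * a :=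
  congrArg Subtype.val (hC.is_comm.comm (⟨a, mem_centralizer_singleton_iff.2 ha⟩ : centralizer ({t} : Set G))
    ⟨b, mem_centralizer_singleton_iff.2 hb⟩)

theorem Data.exists_central_invol (hd : Data T) :
    ∃ z ∈ (T : Subgroup G), orderOf z = 2 ∧ ∀ t ∈ (T : Subgroup G), t * z = z * t := by
  have : Fact (Nat.Prime 2) := ⟨Nat.prime_two⟩
  haveI : Nontrivial (T : Subgroup G) := (Subgroup.nontrivial_iff_ne_bot _).mpr hd.T_ne_bot
  haveI : Nontrivial (Subgroup.center (T : Subgroup G)) := T.isPGroup'.center_nontrivial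
  obtain ⟨k, hk0, hk⟩ := (T.isPGroup'.to_subgroup (Subgroup.center (T : Subgroup G))).nontrivial_iff_card.1
    inferInstance
  obtain ⟨z, hz⟩ := exists_prime_orderOf_dvd_card' (G := Subgroup.center (T : Subgroup G)) 2
    (hk ▸ dvd_pow_self 2 hk0.ne')
  refine ⟨((z : (T : Subgroup G)) : G), (z : (T : Subgroup G)).2, ?_, fun t ht => ?_⟩
  · rwa [Subgroup.orderOf_coe, Subgroup.orderOf_coe]
  · exact congrArg Subtype.val (Subgroup.mem_center_iff.mp z.2 ⟨t, ht⟩)

theorem Data.T_comm (hd : Data T) {a b : G} (ha : a ∈ (T : Subgroup G)) (hb : b ∈ (T : Subgroup G)) :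
    a * b = b * a := by
  obtain ⟨z, -, hz, hc⟩ := hd.exists_central_invol
  exact comm_of (hd.cent z hz) (hc a ha) (hc b hb)

theorem T_le_nT : (T : Subgroup G) ≤ nT T := Subgroup.le_normalizer

theorem Data.T_le_cT (hd : Data T) : (T : Subgroup G) ≤ cT T := fun _ ha =>
  Subgroup.mem_centralizer_iff.2 fun _ hb => hd.T_comm hb ha

theorem cT_le_nT : cT T ≤ nT T := Subgroup.centralizer_le_normalizer _

/-- The centraliser of any involution of `T` is the centraliser of `T`. -/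
theorem Data.centralizer_eq (hd : Data T) {t : G} (ht : t ∈ (T : Subgroup G)) (h2 : orderOf t = 2) :
    Subgroup.centralizer ({t} : Set G) = cT T := by
  refine le_antisymm (fun g hg => ?_) (fun g hg => ?_)
  · exact mem_centralizer_iff.2 fun s hs =>
      comm_of (hd.cent t h2) (hd.T_comm hs ht) (mem_centralizer_singleton_iff.1 hg)
  · exact mem_centralizer_singleton_iff.2 (mem_centralizer_iff.1 hg t ht).symm

theorem Data.cT_comm (hd : Data T) {a b : G} (ha : a ∈ cT T) (hb : b ∈ cT T) : a * b = b * a := by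
  obtain ⟨z, hzT, hz, -⟩ := hd.exists_central_invol
  exact comm_of (hd.cent z hz) (mem_centralizer_iff.1 ha z hzT).symm (mem_centralizer_iff.1 hb z hzT).symm

theorem pgroup_mem_T {g : G} (hg : g ∈ nT T) {k : ℕ} (h2 : g ^ 2 ^ k = 1) :
    g ∈ (T : Subgroup G) := by
  have : Fact (Nat.Prime 2) := ⟨Nat.prime_two⟩
  have hp : IsPGroup 2 (Subgroup.zpowers g) := by
    rintro ⟨v, hv⟩
    obtain ⟨m, rfl⟩ := Subgroup.mem_zpowers_iff.mp hv
    refine ⟨k, Subtype.ext ?_⟩
    rw [Subgroup.coe_pow, Subgroup.coe_one, ← zpow_natCast, ← zpow_mul, mul_comm, zpow_mul,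
      zpow_natCast, h2, one_zpow]
  have hle : Subgroup.zpowers g ≤ nT T := Subgroup.zpowers_le.mpr hg
  have hsup : IsPGroup 2 ↥(Subgroup.zpowers g ⊔ (T : Subgroup G)) :=
    hp.to_sup_of_normal_right' T.isPGroup' hle
  rw [← T.3 hsup le_sup_right]
  exact Subgroup.mem_sup_left (Subgroup.mem_zpowers g)

theorem invol_mem_T {g : G} (hg : g ∈ nT T) (h2 : orderOf g = 2) : g ∈ (T : Subgroup G) :=
  pgroup_mem_T hg (k := 1) (by rw [pow_one, ← h2, pow_orderOf_eq_one])

theorem conj_mem_T {g s : G} (hg : g ∈ nT T) (hs : s ∈ (T : Subgroup G)) :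
    g * s * g⁻¹ ∈ (T : Subgroup G) := (Subgroup.mem_normalizer_iff.1 hg s).1 hs

theorem conj_mem_cT {g c : G} (hg : g ∈ nT T) (hc : c ∈ cT T) : g * c * g⁻¹ ∈ cT T := by
  rw [mem_centralizer_iff] at hc ⊢
  intro s hs
  have h := hc _ (conj_mem_T (inv_mem hg) hs)
  rw [inv_inv] at h
  calc s * (g * c * g⁻¹) = g * (g⁻¹ * s * g * c) * g⁻¹ := by simp [mul_assoc]
    _ = g * (c * (g⁻¹ * s * g)) * g⁻¹ := by rw [h]
    _ = g * c * g⁻¹ * s := by simp [mul_assoc]

theorem Data.nT_ne_top (hd : Data T) : nT T ≠ ⊤ := fun e =>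
  hd.nn (Subgroup.normalizer_eq_top_iff.mp e)

theorem Data.stronglyEmbedded (hd : Data T) : Cfsg.IsStronglyEmbedded (nT T) := by
  obtain ⟨z, hzT, hz, -⟩ := hd.exists_central_invol
  rw [H65.se_iff hd.nT_ne_top (H65.even_card_of_mem (T_le_nT hzT) hz)]
  intro s g hs hsH hg
  have hsT := invol_mem_T hsH hs
  have hs' : orderOf (g⁻¹ * s * g) = 2 := by simpa using H67.invol_conj hs g⁻¹
  have hs'T := invol_mem_T hg hs'
  have h1 := hd.centralizer_eq hsT hs
  have h2 := hd.centralizer_eq hs'T hs'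
  have key : ∀ w : G, w ∈ (T : Subgroup G) → g * w * g⁻¹ ∈ (T : Subgroup G) := by
    intro w hw
    have hc : g * w * g⁻¹ ∈ cT T := by
      rw [← h1, mem_centralizer_singleton_iff]
      have h3 := mem_centralizer_singleton_iff.1 (h2 ▸ hd.T_le_cT hw)
      calc g * w * g⁻¹ * s = g * (w * (g⁻¹ * s * g)) * g⁻¹ := by simp [mul_assoc]
        _ = g * (g⁻¹ * s * g * w) * g⁻¹ := by rw [h3]
        _ = s * (g * w * g⁻¹) := by simp [mul_assoc]
    obtain ⟨k, hk⟩ := T.isPGroup' ⟨w, hw⟩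
    refine pgroup_mem_T (cT_le_nT hc) (k := k) ?_
    rw [conj_pow, show w ^ 2 ^ k = 1 from congrArg Subtype.val hk, mul_one, mul_inv_cancel]
  rw [mem_normalizer_iff_map_conj_eq]
  refine eq_of_le_of_card_ge ?_ (card_map_of_injective (MulAut.conj g).injective).ge
  rintro _ ⟨w, hw, rfl⟩
  exact key w hw

theorem Data.exists_u (hd : Data T) : ∃ u : G, orderOf u = 2 ∧ u ∉ nT T :=
  H67.se_exists_invol_not_mem hd.stronglyEmbedded

theorem Data.exists_invol (hd : Data T) : ∃ t ∈ (T : Subgroup G), orderOf t = 2 := by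
  obtain ⟨z, hzT, hz, -⟩ := hd.exists_central_invol
  exact ⟨z, hzT, hz⟩

/-- The involutions of `T` correspond to the cosets of `C(T)` in `N(T)`. -/
theorem Data.card_invol_T (hd : Data T) :
    Nat.card {t : G // orderOf t = 2 ∧ t ∈ (T : Subgroup G)} = (cT T).relIndex (nT T) := by
  obtain ⟨s, hsT, hs⟩ := hd.exists_invol
  let f : nT T → {t : G // orderOf t = 2 ∧ t ∈ (T : Subgroup G)} := fun h =>
    ⟨h * s * (h : G)⁻¹, H67.invol_conj hs _, conj_mem_T h.2 hsT⟩
  have hiff : ∀ a b : nT T, f a = f b ↔ a⁻¹ * b ∈ (cT T).subgroupOf (nT T) := by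
    intro a b
    rw [Subgroup.mem_subgroupOf, ← hd.centralizer_eq hsT hs, mem_centralizer_singleton_iff]
    simp only [f, Subtype.mk.injEq, Subgroup.coe_mul, Subgroup.coe_inv]
    constructor
    · intro h
      calc (a : G)⁻¹ * b * s = (a : G)⁻¹ * (b * s * (b : G)⁻¹) * b := by simp [mul_assoc]
        _ = (a : G)⁻¹ * (a * s * (a : G)⁻¹) * b := by rw [h]
        _ = s * ((a : G)⁻¹ * b) := by simp [mul_assoc]
    · intro h
      calc (a : G) * s * (a : G)⁻¹ = a * (s * ((a : G)⁻¹ * b)) * (b : G)⁻¹ := by simp [mul_assoc]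
        _ = a * ((a : G)⁻¹ * b * s) * (b : G)⁻¹ := by rw [h]
        _ = b * s * (b : G)⁻¹ := by simp [mul_assoc]
  refine (Nat.card_eq_of_bijective
    (Quotient.lift (s := QuotientGroup.leftRel ((cT T).subgroupOf (nT T))) f
      fun a b h => (hiff a b).2 (QuotientGroup.leftRel_apply.1 h)) ⟨?_, ?_⟩).symm
  · intro x y
    obtain ⟨a, rfl⟩ := QuotientGroup.mk_surjective x
    obtain ⟨b, rfl⟩ := QuotientGroup.mk_surjective y
    intro h
    exact QuotientGroup.eq.2 ((hiff a b).1 h)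
  · rintro ⟨t, ht, htT⟩
    obtain ⟨h, hh, e⟩ := H67.se_conj_in hd.stronglyEmbedded hs (T_le_nT hsT) ht (T_le_nT htT)
    exact ⟨QuotientGroup.mk ⟨h, hh⟩, Subtype.ext e⟩

end H39.AIC
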