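import Mathlib
import Cfsg.Agent.H39.AIC.Basic
import Cfsg.Agent.H13.TIExceptional

/-!
Groups with abelian centralisers of involutions in which no odd element of `C(T)` has its
centraliser outside `N(T)`: `C(T)` is a TI subgroup with Frobenius normaliser.
-/

set_option autoImplicit false
set_option maxHeartbeats 800000

namespace H39.AIC

open Subgroup

/-- The case in which no element of odd order of `C(T)` has a larger centraliser. -/
structure Tight {G : Type*} [Group G] (T : Sylow 2 G) : Prop extends Data T where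
  cent_le : ∀ a ∈ cT T, Odd (orderOf a) → a ≠ 1 → Subgroup.centralizer ({a} : Set G) ≤ nT T

/-- The stabiliser of the cosets of `1` and `u`. -/
abbrev dU {G : Type*} [Group G] (T : Sylow 2 G) (u : G) : Subgroup G :=
  nT T ⊓ (nT T).map (MulAut.conj u).toMonoidHom

theorem mem_dU {G : Type*} [Group G] [Finite G] {T : Sylow 2 G} {u d : G} :
    d ∈ dU T u ↔ d ∈ nT T ∧ u⁻¹ * d * u ∈ nT T := H65.mem_inf_conj

variable {G : Type*} [Group G] [Finite G] {T : Sylow 2 G}

theorem Data.not_both (hd : Data T) {u z : G} (huT : u ∉ nT T) (hz : z ∈ (T : Subgroup G))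
    (hz2 : orderOf z = 2) (h : u * z * u⁻¹ ∈ nT T) : False :=
  huT (H65.se_conj_mem hd.stronglyEmbedded (g := u) (H67.invol_conj hz2 u) h (by
    rw [show u⁻¹ * (u * z * u⁻¹) * u = z by simp [mul_assoc]]
    exact T_le_nT hz))

theorem Data.odd_orderOf_dU (hd : Data T) {u d : G} (hu : u ∉ nT T) (hdD : d ∈ dU T u) :
    Odd (orderOf d) :=
  (hd.stronglyEmbedded.2.2 u hu).of_dvd_nat (orderOf_dvd_natCard _ hdD)

theorem eq_one_of_sq {x : G} (ho : Odd (orderOf x)) {k : ℕ} (h : (x ^ 2) ^ 2 ^ k = 1) : x = 1 := by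
  rw [← pow_mul, ← pow_succ'] at h
  have := orderOf_dvd_of_pow_eq_one h
  exact orderOf_eq_one_iff.1 (((Nat.coprime_two_right.2 ho).pow_right (k + 1)).eq_one_of_dvd this)

/-- An element inverted by an involution commutes with no fixed point of odd order. -/
theorem Tight.eq_one_of_inverted (hd : Tight T) {u f x : G} (hu : orderOf u = 2) (hf : f * u = u * f)
    (hfo : Odd (orderOf f)) (hf1 : f ≠ 1) (hfx : f * x = x * f) (hx : u * x * u⁻¹ = x⁻¹)
    (hxo : Odd (orderOf x)) : x = 1 := by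
  obtain ⟨z, hzT, hz⟩ := hd.exists_invol
  obtain ⟨g, hg⟩ := isConj_iff.mp (H67.se_isConj hd.stronglyEmbedded hz hu)
  have hf'C : g⁻¹ * f * g ∈ cT T := by
    rw [← hd.centralizer_eq hzT hz, mem_centralizer_singleton_iff]
    rw [← hg] at hf
    calc g⁻¹ * f * g * z = g⁻¹ * (f * (g * z * g⁻¹)) * g := by simp [mul_assoc]
      _ = g⁻¹ * ((g * z * g⁻¹) * f) * g := by rw [hf]
      _ = z * (g⁻¹ * f * g) := by simp [mul_assoc]
  have e : ∀ y : G, orderOf (g⁻¹ * y * g) = orderOf y := fun y => by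
    have := orderOf_injective (MulAut.conj g⁻¹).toMonoidHom (MulAut.conj g⁻¹).injective y
    simpa using this
  have hx'H : g⁻¹ * x * g ∈ nT T := by
    refine hd.cent_le _ hf'C (by rw [e]; exact hfo) (fun h => hf1 ?_) ?_
    · rw [← orderOf_eq_one_iff, ← e, h, orderOf_one]
    · rw [mem_centralizer_singleton_iff]
      calc g⁻¹ * x * g * (g⁻¹ * f * g) = g⁻¹ * (x * f) * g := by simp [mul_assoc]
        _ = g⁻¹ * (f * x) * g := by rw [hfx]
        _ = g⁻¹ * f * g * (g⁻¹ * x * g) := by simp [mul_assoc]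
  set x' := g⁻¹ * x * g with hx'
  have hinv : z * x' * z⁻¹ = x'⁻¹ := by
    rw [← hg] at hx
    calc z * x' * z⁻¹ = g⁻¹ * (g * z * g⁻¹ * x * (g * z * g⁻¹)⁻¹) * g := by simp [hx', mul_assoc]
      _ = g⁻¹ * x⁻¹ * g := by rw [hx]
      _ = x'⁻¹ := by simp [hx', mul_assoc]
  have hsq : x' ^ 2 ∈ (T : Subgroup G) := by
    have h1 := mul_mem (conj_mem_T hx'H hzT) (inv_mem hzT)
    rwa [show x' * z * x'⁻¹ * z⁻¹ = x' * (z * x'⁻¹ * z⁻¹) by simp [mul_assoc],
      show z * x'⁻¹ * z⁻¹ = (z * x' * z⁻¹)⁻¹ by simp [mul_assoc], hinv, inv_inv, ← sq] at h1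
  obtain ⟨k, hk⟩ := T.isPGroup' ⟨_, hsq⟩
  have h1 : x' = 1 := eq_one_of_sq (by rw [e]; exact hxo) (k := k) (congrArg Subtype.val hk)
  rw [← orderOf_eq_one_iff, ← e, ← hx', h1, orderOf_one]

theorem Tight.dU_inf_cT (hd : Tight T) {u : G} (hu : orderOf u = 2) (huH : u ∉ nT T) {b : G}
    (hbD : b ∈ dU T u) (hbC : b ∈ cT T) : b = 1 := by
  have huu := H67.invol_sq hu
  have hui : u⁻¹ = u := inv_eq_of_mul_eq_one_right huu
  have both : ∀ b ∈ dU T u, b ∈ cT T → u * b * u ∈ cT T → b = 1 := by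
    intro b hbD hbC hb'C
    by_contra hb1
    obtain ⟨z, hzT, hz⟩ := hd.exists_invol
    refine hd.not_both huH hzT hz (hd.cent_le b hbC (hd.odd_orderOf_dU huH hbD) hb1 ?_)
    rw [mem_centralizer_singleton_iff, hui]
    have h := mem_centralizer_iff.1 hb'C z hzT
    calc u * z * u * b = u * (z * (u * b * u)) * u := by simp [mul_assoc, huu]
      _ = u * ((u * b * u) * z) * u := by rw [h]
      _ = (u * u) * b * (u * z * u) := by simp [mul_assoc]
      _ = b * (u * z * u) := by rw [huu, one_mul]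
  have hflip : ∀ y : G, u * y⁻¹ * u = (u * y * u)⁻¹ := fun y => by
    rw [mul_inv_rev, mul_inv_rev, hui, mul_assoc]
  set b' := u * b * u with hb'
  have hbu : u * b' * u = b := by simp [hb', ← mul_assoc, huu]; simp [mul_assoc, huu]
  have hb'H : b' ∈ nT T := by
    have := (mem_dU.1 hbD).2
    rwa [hui] at this
  have hb'D : b' ∈ dU T u := mem_dU.2 ⟨hb'H, by rw [hui, hbu]; exact (mem_dU.1 hbD).1⟩
  set c := b * b' * b⁻¹ * b'⁻¹ with hc
  have hcC : c ∈ cT T := by
    rw [hc, show b * b' * b⁻¹ * b'⁻¹ = b * (b' * b⁻¹ * b'⁻¹) by simp [mul_assoc]]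
    exact mul_mem hbC (conj_mem_cT hb'H (inv_mem hbC))
  have hcD : c ∈ dU T u := mul_mem (mul_mem (mul_mem hbD hb'D) (inv_mem hbD)) (inv_mem hb'D)
  have hbinv : u * b⁻¹ * u = b'⁻¹ := hflip b
  have hucu : u * c * u = c⁻¹ := by
    have e : u * c * u = (u * b * u) * (u * b' * u) * (u * b⁻¹ * u) * (u * b'⁻¹ * u) := by
      rw [hc]
      calc u * (b * b' * b⁻¹ * b'⁻¹) * u
          = u * b * (u * u) * b' * (u * u) * b⁻¹ * (u * u) * b'⁻¹ * u := by rw [huu]; simp [mul_assoc]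
        _ = _ := by simp [mul_assoc]
    rw [e, hbu, hbinv, hflip b', hbu, ← hb']
    simp [hc, mul_assoc]
  have hc1 := both c hcD hcC (by rw [hucu]; exact inv_mem hcC)
  have hcomm : b * b' = b' * b := by
    rw [hc] at hc1
    exact commutatorElement_eq_one_iff_mul_comm.1 (by rw [commutatorElement_def]; exact hc1)
  by_contra hb1
  have hf1 : b * b' ≠ 1 := fun h => hb1 (both b hbD hbC (by
    rw [← hb', eq_inv_of_mul_eq_one_right h]; exact inv_mem hbC))
  have hx : b * b'⁻¹ = 1 := by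
    refine hd.eq_one_of_inverted hu (f := b * b') ?_ (hd.odd_orderOf_dU huH (mul_mem hbD hb'D)) hf1 ?_ ?_
      (hd.odd_orderOf_dU huH (mul_mem hbD (inv_mem hb'D)))
    · calc b * b' * u = (b' * b) * u := by rw [hcomm]
        _ = u * b * (u * u) * b' := by simp [hb', mul_assoc, huu]
        _ = u * (b * b') := by rw [huu]; simp [mul_assoc]
    · have hc' : Commute b b' := hcomm
      exact ((((Commute.refl b).mul_left hc'.symm)).mul_right
        ((hc'.mul_left (Commute.refl b')).inv_right)).eq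
    · rw [hui]
      calc u * (b * b'⁻¹) * u = u * b * (u * u) * b'⁻¹ * u := by rw [huu]; simp [mul_assoc]
        _ = (u * b * u) * (u * b'⁻¹ * u) := by simp [mul_assoc]
        _ = (b * b'⁻¹)⁻¹ := by rw [← hb', hflip b', hbu, mul_inv_rev b, inv_inv]
  exact hb1 (both b hbD hbC (by rw [← hb', ← mul_inv_eq_one.1 hx]; exact hbC))

theorem Tight.dU_inj (hd : Tight T) {u : G} (hu : orderOf u = 2) (huH : u ∉ nT T) {s d d' : G}
    (hsT : s ∈ (T : Subgroup G)) (hs : orderOf s = 2) (h1 : d ∈ dU T u) (h2 : d' ∈ dU T u)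
    (e : d * s * d⁻¹ = d' * s * d'⁻¹) : d = d' := by
  refine (inv_mul_eq_one.1 (hd.dU_inf_cT hu huH (mul_mem (inv_mem h2) h1) ?_)).symm
  rw [← hd.centralizer_eq hsT hs, mem_centralizer_singleton_iff]
  calc d'⁻¹ * d * s = d'⁻¹ * (d * s * d⁻¹) * d := by simp [mul_assoc]
    _ = d'⁻¹ * (d' * s * d'⁻¹) * d := by rw [e]
    _ = s * (d'⁻¹ * d) := by simp [mul_assoc]

theorem Tight.dU_inverted (hd : Tight T) {u : G} (hu : orderOf u = 2) (huH : u ∉ nT T) {d : G}
    (hdD : d ∈ dU T u) : u * d * u⁻¹ = d⁻¹ := by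
  obtain ⟨s, hsT, hs⟩ := hd.exists_invol
  obtain ⟨d', hd'H, hd'u, hinv, he⟩ := H67.exists_inverted_conj hd.stronglyEmbedded hu huH hs
    (T_le_nT hsT) (H67.invol_conj hs d) (T_le_nT (conj_mem_T (mem_dU.1 hdD).1 hsT))
  rw [hd.dU_inj hu huH hsT hs hdD (mem_dU.2 ⟨hd'H, hd'u⟩) he.symm]
  exact hinv

theorem Tight.decomp (hd : Tight T) {u : G} (hu : orderOf u = 2) (huH : u ∉ nT T) {h : G}
    (hh : h ∈ nT T) : ∃ d ∈ dU T u, ∃ c ∈ cT T, h = d * c := by
  obtain ⟨s, hsT, hs⟩ := hd.exists_invol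
  obtain ⟨d, hdH, hdu, -, he⟩ := H67.exists_inverted_conj hd.stronglyEmbedded hu huH hs
    (T_le_nT hsT) (H67.invol_conj hs h) (T_le_nT (conj_mem_T hh hsT))
  refine ⟨d, mem_dU.2 ⟨hdH, hdu⟩, d⁻¹ * h, ?_, (mul_inv_cancel_left _ _).symm⟩
  rw [← hd.centralizer_eq hsT hs, mem_centralizer_singleton_iff]
  calc d⁻¹ * h * s = d⁻¹ * (h * s * h⁻¹) * h := by simp [mul_assoc]
    _ = d⁻¹ * (d * s * d⁻¹) * h := by rw [he]
    _ = s * (d⁻¹ * h) := by simp [mul_assoc]

theorem Tight.centralizer_dU_odd (hd : Tight T) {u : G} (hu : orderOf u = 2) (huH : u ∉ nT T) {d : G}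
    (hdD : d ∈ dU T u) (hd1 : d ≠ 1) : ∀ v ∈ Subgroup.centralizer ({d} : Set G), orderOf v ≠ 2 := by
  intro v hv hv2
  rw [mem_centralizer_singleton_iff] at hv
  by_cases hvH : v ∈ nT T
  · have hvT := invol_mem_T hvH hv2
    refine hd1 (hd.dU_inf_cT hu huH hdD ?_)
    rw [← hd.centralizer_eq hvT hv2, mem_centralizer_singleton_iff, hv]
  · have hv' : v⁻¹ * d * v = d := by rw [mul_assoc, ← hv, inv_mul_cancel_left]
    have hdv : d ∈ dU T v := mem_dU.2 ⟨(mem_dU.1 hdD).1, by rw [hv']; exact (mem_dU.1 hdD).1⟩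
    have h := hd.dU_inverted hv2 hvH hdv
    rw [hv, mul_inv_cancel_right] at h
    refine hd1 (eq_one_of_sq (hd.odd_orderOf_dU huH hdD) (k := 0) ?_)
    rw [pow_zero, pow_one, sq]
    nth_rw 1 [h]
    exact inv_mul_cancel d

theorem Tight.cT_dU_commute (hd : Tight T) {u : G} (hu : orderOf u = 2) (huH : u ∉ nT T) {d a : G}
    (hdD : d ∈ dU T u) (hd1 : d ≠ 1) (haC : a ∈ cT T) (hc : a * d = d * a) : a = 1 := by
  have huu := H67.invol_sq hu
  have hui : u⁻¹ = u := inv_eq_of_mul_eq_one_right huu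
  set K := Subgroup.centralizer ({d} : Set G)
  have hKodd := hd.centralizer_dU_odd hu huH hdD hd1
  have hinv := hd.dU_inverted hu huH hdD
  rw [hui] at hinv
  have hK : ∀ b ∈ K, u * b * u ∈ K := by
    intro b hb
    rw [mem_centralizer_singleton_iff] at hb ⊢
    have hd' : d = u * d⁻¹ * u := by rw [← hinv]; simp [← mul_assoc, huu]; simp [mul_assoc, huu]
    have hb' : b * d⁻¹ = d⁻¹ * b := (show Commute b d from hb).inv_right.eq
    calc u * b * u * d = u * b * u * (u * d⁻¹ * u) := by rw [← hd']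
      _ = u * (b * d⁻¹) * u := by simp [← mul_assoc]; simp [mul_assoc, huu]
      _ = u * (d⁻¹ * b) * u := by rw [hb']
      _ = (u * d⁻¹ * u) * (u * b * u) := by simp [← mul_assoc]; simp [mul_assoc, huu]
      _ = d * (u * b * u) := by rw [← hd']
  have hoK : ∀ b ∈ K, Odd (orderOf b) := fun b hb =>
    (odd_iff_no_invol.2 hKodd).of_dvd_nat (orderOf_dvd_natCard _ hb)
  have hfree : ∀ b ∈ K, u * b = b * u → b = 1 := by
    intro b hb hbu
    by_contra hb1
    exact hd1 (hd.eq_one_of_inverted hu hbu.symm (hoK b hb) hb1 (mem_centralizer_singleton_iff.1 hb)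
      (by rw [hui]; exact hinv) (hd.odd_orderOf_dU huH hdD))
  have h := inverts_of_fpf K huu hK hfree (a := a) (mem_centralizer_singleton_iff.2 hc)
  refine hd.dU_inf_cT hu huH (mem_dU.2 ⟨cT_le_nT haC, ?_⟩) haC
  rw [hui, h]
  exact cT_le_nT (inv_mem haC)

/-- `C(T)` contains the centralisers of its nontrivial elements. -/
theorem Tight.centralizer_le (hd : Tight T) {x g : G} (hx : x ∈ cT T) (hx1 : x ≠ 1)
    (hg : g * x = x * g) : g ∈ cT T := by
  obtain ⟨k, r, hr, hn⟩ : ∃ k r : ℕ, Odd r ∧ orderOf x = 2 ^ k * r := by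
    refine ⟨(orderOf x).factorization 2, orderOf x / 2 ^ (orderOf x).factorization 2, ?_,
      (Nat.ordProj_mul_ordCompl_eq_self _ _).symm⟩
    exact Nat.odd_iff.2 (Nat.two_dvd_ne_zero.1 (Nat.not_dvd_ordCompl Nat.prime_two (orderOf_pos x).ne'))
  by_cases hk : k = 0
  · -- odd order
    rw [hk, pow_zero, one_mul] at hn
    have hgH := hd.cent_le x hx (hn ▸ hr) hx1 (mem_centralizer_singleton_iff.2 hg)
    obtain ⟨u, hu, huH⟩ := hd.exists_u
    obtain ⟨d, hdD, c, hc, rfl⟩ := hd.decomp hu huH hgH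
    have hxd : x * d = d * x := by
      have h1 := hd.cT_comm hc hx
      calc x * d = x * (d * c) * c⁻¹ := by simp [mul_assoc]
        _ = (d * c) * x * c⁻¹ := by rw [hg]
        _ = d * (c * x) * c⁻¹ := by simp [mul_assoc]
        _ = d * (x * c) * c⁻¹ := by rw [h1]
        _ = d * x := by simp [mul_assoc]
    by_cases hd1 : d = 1
    · rwa [hd1, one_mul]
    · exact absurd (hd.cT_dU_commute hu huH hdD hd1 hx hxd) hx1
  · set v := x ^ (2 ^ (k - 1) * r) with hv
    have hpos : 0 < 2 ^ (k - 1) * r := Nat.mul_pos (Nat.two_pow_pos _) hr.pos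
    have hv2 : orderOf v = 2 := by
      rw [hv, orderOf_pow_of_dvd hpos.ne' (by
        rw [hn]; exact Nat.mul_dvd_mul_right (pow_dvd_pow 2 (Nat.sub_le k 1)) r), hn,
        show 2 ^ k * r = 2 * (2 ^ (k - 1) * r) by
          rw [← mul_assoc, ← pow_succ', Nat.sub_add_cancel (Nat.pos_of_ne_zero hk)],
        Nat.mul_div_cancel _ hpos]
    have hvC : v ∈ cT T := pow_mem hx _
    have hvT := invol_mem_T (cT_le_nT hvC) hv2
    rw [← hd.centralizer_eq hvT hv2, mem_centralizer_singleton_iff]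
    exact ((show Commute g x from hg).pow_right _).eq

theorem Data.normalizer_cT (hd : Data T) : Subgroup.normalizer (cT T : Set G) = nT T := by
  refine le_antisymm (fun g hg => ?_) (fun g hg => ?_)
  · have key : ∀ w : G, w ∈ (T : Subgroup G) → g * w * g⁻¹ ∈ (T : Subgroup G) := by
      intro w hw
      obtain ⟨k, hk⟩ := T.isPGroup' ⟨w, hw⟩
      refine pgroup_mem_T (cT_le_nT ((mem_normalizer_iff.1 hg w).1 (hd.T_le_cT hw))) (k := k) ?_
      rw [conj_pow, show w ^ 2 ^ k = 1 from congrArg Subtype.val hk, mul_one, mul_inv_cancel]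
    rw [mem_normalizer_iff_map_conj_eq]
    refine eq_of_le_of_card_ge ?_ (card_map_of_injective (MulAut.conj g).injective).ge
    rintro _ ⟨w, hw, rfl⟩
    exact key w hw
  · rw [mem_normalizer_iff_map_conj_eq]
    refine eq_of_le_of_card_ge ?_ (card_map_of_injective (MulAut.conj g).injective).ge
    rintro _ ⟨w, hw, rfl⟩
    exact conj_mem_cT hg hw

theorem Tight.hyp [Fintype G] (hd : Tight T) : H13.TI.Hyp (cT T) where
  cent g x hx hx1 hg := hd.centralizer_le hx hx1 hg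
  ti g x hx hx1 hgx := by
    rw [mem_normalizer_iff_map_conj_eq]
    refine eq_of_le_of_card_ge ?_ (card_map_of_injective (MulAut.conj g).injective).ge
    rintro _ ⟨w, hw, rfl⟩
    refine hd.centralizer_le hgx (fun h => hx1 (conj_eq_one_iff.1 h)) ?_
    show g * w * g⁻¹ * (g * x * g⁻¹) = g * x * g⁻¹ * (g * w * g⁻¹)
    calc g * w * g⁻¹ * (g * x * g⁻¹) = g * (w * x) * g⁻¹ := by simp [mul_assoc]
      _ = g * (x * w) * g⁻¹ := by rw [hd.cT_comm hw hx]
      _ = g * x * g⁻¹ * (g * w * g⁻¹) := by simp [mul_assoc]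

/-- `C(T)` acts semiregularly away from the coset `N(T)`. -/
theorem Tight.card_cT_lt (hd : Tight T) : Nat.card (cT T) < (nT T).index := by
  classical
  obtain ⟨g, -, hg⟩ := SetLike.exists_of_lt (lt_top_iff_ne_top.mpr hd.nT_ne_top)
  haveI := Fintype.ofFinite (G ⧸ nT T)
  let f : Option (cT T) → G ⧸ nT T := fun o =>
    o.elim ((1 : G) : G ⧸ nT T) (fun c => (((c : G) * g : G) : G ⧸ nT T))
  have hinj : Function.Injective f := by
    rintro (_ | a) (_ | b) h
    · rfl
    · exfalso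
      have h1 := QuotientGroup.eq.1 h
      rw [inv_one, one_mul] at h1
      exact hg (by have := mul_mem (inv_mem (cT_le_nT b.2)) h1; rwa [inv_mul_cancel_left] at this)
    · exfalso
      have h1 := QuotientGroup.eq.1 h.symm
      rw [inv_one, one_mul] at h1
      exact hg (by have := mul_mem (inv_mem (cT_le_nT a.2)) h1; rwa [inv_mul_cancel_left] at this)
    · congr 1
      have h1 := QuotientGroup.eq.1 h
      set c := (a : G)⁻¹ * b with hc
      have hcC : c ∈ cT T := mul_mem (inv_mem a.2) b.2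
      rw [show ((a : G) * g)⁻¹ * ((b : G) * g) = g⁻¹ * c * g by simp [hc, mul_assoc]] at h1
      obtain ⟨v, hv, hgv⟩ := H67.exists_involTo hd.stronglyEmbedded hg
      have hvH : v ∉ nT T := fun h => hg (by
        have := mul_mem h (inv_mem hgv)
        rwa [mul_inv_rev, inv_inv, mul_inv_cancel_left] at this)
      have hcv : c ∈ dU T v := mem_dU.2 ⟨cT_le_nT hcC, by
        rw [show v⁻¹ * c * v = (g⁻¹ * v)⁻¹ * (g⁻¹ * c * g) * (g⁻¹ * v) by simp [mul_assoc]]
        exact mul_mem (mul_mem (inv_mem hgv) h1) hgv⟩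
      exact Subtype.ext (inv_mul_eq_one.1 (hd.dU_inf_cT hv hvH hcv hcC))
  have := Nat.card_le_card_of_injective f hinj
  rw [Finite.card_option] at this
  rw [Subgroup.index_eq_card]
  omega

/-- An element of `C(T)` that is a product of two involutions is an involution or trivial. -/
theorem Tight.product_invol (hd : Tight T) {a b : G} (ha : orderOf a = 2) (hb : orderOf b = 2)
    (hz : a * b ∈ cT T) (hz1 : a * b ≠ 1) :
    a ∈ (T : Subgroup G) ∧ b ∈ (T : Subgroup G) ∧ orderOf (a * b) = 2 := by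
  have haa := H67.invol_sq ha
  have hbb := H67.invol_sq hb
  have hai : a⁻¹ = a := inv_eq_of_mul_eq_one_right haa
  have hbi : b⁻¹ = b := inv_eq_of_mul_eq_one_right hbb
  have haN : a ∈ Subgroup.normalizer (cT T : Set G) := by
    rw [mem_normalizer_iff_map_conj_eq]
    refine eq_of_le_of_card_ge ?_ (card_map_of_injective (MulAut.conj a).injective).ge
    rintro _ ⟨w, hw, rfl⟩
    have hz' : a * (a * b) * a⁻¹ = (a * b)⁻¹ := by simp [hai, hbi, ← mul_assoc, haa]
    refine hd.centralizer_le (inv_mem hz) (fun h => hz1 (inv_eq_one.1 h)) ?_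
    show a * w * a⁻¹ * (a * b)⁻¹ = (a * b)⁻¹ * (a * w * a⁻¹)
    rw [← hz']
    calc a * w * a⁻¹ * (a * (a * b) * a⁻¹) = a * (w * (a * b)) * a⁻¹ := by simp [mul_assoc]
      _ = a * ((a * b) * w) * a⁻¹ := by rw [hd.cT_comm hw hz]
      _ = a * (a * b) * a⁻¹ * (a * w * a⁻¹) := by simp [mul_assoc]
  rw [hd.normalizer_cT] at haN
  have haT := invol_mem_T haN ha
  have hbC : b ∈ cT T := by
    have := mul_mem (inv_mem (hd.T_le_cT haT)) hz
    rwa [inv_mul_cancel_left] at this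
  have hbT := invol_mem_T (cT_le_nT hbC) hb
  refine ⟨haT, hbT, ?_⟩
  haveI : Fact (Nat.Prime 2) := ⟨Nat.prime_two⟩
  refine orderOf_eq_prime ?_ hz1
  rw [sq]
  calc a * b * (a * b) = a * (b * a) * b := by simp [mul_assoc]
    _ = a * (a * b) * b := by rw [hd.T_comm hbT haT]
    _ = 1 := by rw [← mul_assoc a a, haa, one_mul, hbb]

end H39.AIC
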