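import Mathlib
import Cfsg.Agent.H39.AIC.Local
import Cfsg.Agent.H13.TICoeff
import Cfsg.Agent.H12.Products

/-!
Exceptional characters show that in the tight case `C(T)` is elementary abelian.
-/

set_option autoImplicit false
set_option maxHeartbeats 1600000

open Cfsg
open scoped ComplexConjugate

namespace H39.AIC

universe u

/-- An abelian 2-group with one involution is cyclic. -/
theorem isCyclic_of_unique_invol {A : Type*} [CommGroup A] [Finite A] (hA : IsPGroup 2 A)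
    (h : Nat.card {x : A // orderOf x = 2} ≤ 1) : IsCyclic A := by
  classical
  haveI := Fintype.ofFinite A
  haveI : Fact (Nat.Prime 2) := ⟨Nat.prime_two⟩
  have h1 : (Finset.univ.filter fun x : A => x ^ 2 = 1).card ≤ 2 := by
    have e : (Finset.univ.filter fun x : A => x ^ 2 = 1) ⊆
        insert 1 (Finset.univ.filter fun x : A => orderOf x = 2) := by
      intro x hx
      simp only [Finset.mem_filter, Finset.mem_univ, true_and, Finset.mem_insert] at hx ⊢
      by_cases hx1 : x = 1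
      · exact Or.inl hx1
      · exact Or.inr (orderOf_eq_prime hx hx1)
    refine (Finset.card_le_card e).trans ((Finset.card_insert_le _ _).trans ?_)
    rw [Nat.card_eq_fintype_card, Fintype.card_subtype] at h
    omega
  have hk : ∀ k : ℕ, (Finset.univ.filter fun x : A => x ^ 2 ^ k = 1).card ≤ 2 ^ k := by
    intro k
    induction k with
    | zero =>
      rw [pow_zero]
      refine Finset.card_le_one.2 fun a ha b hb => ?_
      simp at ha hb
      rw [ha, hb]
    | succ k ih =>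
      refine (Finset.card_le_mul_card_image_of_maps_to (f := fun x : A => x ^ 2)
        (t := Finset.univ.filter fun x : A => x ^ 2 ^ k = 1) ?_ 2 ?_).trans ?_
      · intro x hx
        simp only [Finset.mem_filter, Finset.mem_univ, true_and, ← pow_mul] at hx ⊢
        rwa [← pow_succ']
      · intro y _
        rcases Finset.eq_empty_or_nonempty ((Finset.univ.filter fun x : A => x ^ 2 ^ (k + 1) = 1).filter
          fun x => x ^ 2 = y) with he | ⟨x₀, hx₀⟩
        · rw [he]; simp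
        · refine le_trans ?_ h1
          refine Finset.card_le_card_of_injOn (fun x => x * x₀⁻¹) ?_ (fun a _ b _ hab => mul_right_cancel hab)
          intro x hx
          simp only [Finset.coe_filter, Finset.mem_filter, Finset.mem_univ, true_and, Set.mem_ofPred_eq] at hx hx₀ ⊢
          rw [mul_pow, inv_pow, hx.2, hx₀.2, mul_inv_cancel]
      · rw [pow_succ']
        exact Nat.mul_le_mul_left 2 ih
  refine isCyclic_of_card_pow_eq_one_le fun n hn => ?_
  obtain ⟨e, he⟩ := hA.exists_card_eq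
  obtain ⟨k, -, hk'⟩ := (Nat.dvd_prime_pow Nat.prime_two).1
    (show Nat.gcd n (Nat.card A) ∣ 2 ^ e from he ▸ Nat.gcd_dvd_right _ _)
  refine le_trans (le_trans (Finset.card_le_card ?_) (hk k)) (hk' ▸ Nat.gcd_le_left _ hn)
  intro x hx
  simp only [Finset.mem_filter, Finset.mem_univ, true_and] at hx ⊢
  rw [← hk']
  exact pow_gcd_eq_one.2 ⟨hx, pow_card_eq_one'⟩

section linear

variable {A : Type u} [Group A] [Fintype A] [Fintype (A →* ℂˣ)] [DecidableEq A]

theorem sum_linear_eval (hA : ∀ a b : A, a * b = b * a) (g : A) :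
    ∑ θ : A →* ℂˣ, (θ g : ℂ) = if g = 1 then (Nat.card A : ℂ) else 0 := by
  classical
  have hb : Function.Bijective (H12.linIrr (G := A)) := by
    refine ⟨H12.linIrr_injective, fun χ => ?_⟩
    obtain ⟨f, hf⟩ := H12.exists_monoidHom_of_apply_one_eq_one (H12.isCharacter_irr χ)
      (H12.irr_apply_one_of_comm hA χ)
    exact ⟨f, Subtype.ext hf⟩
  have h := H12.regular_eq_sum g
  rw [← hb.sum_comp] at h
  refine Eq.trans (Finset.sum_congr rfl fun θ _ => ?_) (h.trans (by split_ifs <;> rfl))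
  rw [H12.irr_apply_one_of_comm hA, one_mul, H12.linIrr_apply]

end linear

variable {G : Type u} [Group G] [Fintype G] {T : Sylow 2 G}

attribute [local instance] H13.TI.fintypeNormalizer

local notation "C" => cT T
local notation "N" => Subgroup.normalizer (cT T : Set G)

open H13.TI in
/-- Restriction to `C(T)` as a combination of linear characters. -/
theorem res_eq_sum [Fintype (C →* ℂˣ)] (hd : Tight T) (χ : IrrCharacter G) (x : C) :
    (χ : G → ℂ) (x : G) = ∑ θ : C →* ℂˣ, (coef χ θ : ℂ) * (θ x : ℂ) := by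
  classical
  haveI := Fintype.ofFinite C
  have hcomm : ∀ a b : C, a * b = b * a := fun a b => Subtype.ext (hd.cT_comm a.2 b.2)
  simp only [← coef_res, H12.classInner_def]
  have hconj : ∀ (θ : C →* ℂˣ) (y : C), conj (lf θ y) * (θ x : ℂ) = (θ (y⁻¹ * x) : ℂ) := fun θ y => by
    rw [conj_lf, lf, map_mul, map_inv, Units.val_mul]
    rfl
  simp only [Finset.mul_sum, Finset.sum_mul, mul_assoc, hconj]
  rw [Finset.sum_comm]
  simp only [← Finset.mul_sum, sum_linear_eval hcomm]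
  rw [Finset.sum_eq_single x (fun y _ hy => by
      rw [if_neg (fun h => hy (inv_mul_eq_one.1 h)), mul_zero]) (by simp), inv_mul_cancel, if_pos rfl,
    mul_comm ((χ : G → ℂ) x), ← mul_assoc, inv_mul_cancel₀ (Nat.cast_ne_zero.2 Nat.card_pos.ne'), one_mul]

/-- Orbit sums of linear characters. -/
noncomputable def orbSum (θ : C →* ℂˣ) (x : C) : ℂ :=
  (Nat.card C : ℂ)⁻¹ * ∑ n : N, (H13.TI.tw C n θ x : ℂ)

open H13.TI in
theorem orbSum_tw (θ : C →* ℂˣ) (n : N) (x : C) : orbSum (tw C n θ) x = orbSum θ x := by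
  rw [orbSum, orbSum]
  congr 1
  refine Fintype.sum_equiv (Equiv.mulLeft n) _ _ fun k => ?_
  rw [Equiv.coe_mulLeft, tw_mul]

open H13.TI in
theorem orbSum_eq_nn [Fintype (C →* ℂˣ)] (θ : C →* ℂˣ) (x : C) :
    orbSum θ x = ∑ φ : C →* ℂˣ, nn φ θ * (φ x : ℂ) := by
  classical
  simp only [nn_eq, orbSum, mul_assoc, Finset.sum_mul, ← Finset.mul_sum]
  congr 1
  rw [Finset.sum_comm]
  refine Finset.sum_congr rfl fun n _ => ?_
  simp only [ite_mul, one_mul, zero_mul]
  rw [Finset.sum_ite_eq, if_pos (Finset.mem_univ _)]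

/-- The exceptional characters on `C(T)`. -/
theorem value_exceptional [Fintype (C →* ℂˣ)] (hd : Tight T) (F : H13.TI.Family C) :
    ∃ (ε κ : ℤ), (ε = 1 ∨ ε = -1) ∧ ∀ (s : Fin F.w) (x : C), x ≠ 1 →
      (F.mu s : G → ℂ) (x : G) = (ε : ℂ) * orbSum (F.rep s) x + (κ : ℂ) := by
  classical
  open H13.TI in
  have hH := hd.hyp
  obtain ⟨ε, hε, hεe⟩ : ∃ δ : ℤ, (δ = 1 ∨ δ = -1) ∧ F.eps = (δ : ℂ) := by
    rcases F.eps_sq with h | h
    · exact ⟨1, Or.inl rfl, by simp [h]⟩
    · exact ⟨-1, Or.inr rfl, by simp [h]⟩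
  set o := F.zeroIx
  set κ : ℤ := (H13.TI.coef (F.mu o) (1 : C →* ℂˣ) : ℤ) - ((H13.TI.coef (F.mu o) (F.rep o) : ℤ) - ε) with hκ
  refine ⟨ε, κ, hε, ?_⟩
  have ho : ∀ x : C, x ≠ 1 → (F.mu o : G → ℂ) (x : G) = (ε : ℂ) * orbSum (F.rep o) x + (κ : ℂ) := by
    intro x hx
    have hcomm : ∀ a b : C, a * b = b * a := fun a b => Subtype.ext (hd.cT_comm a.2 b.2)
    haveI := Fintype.ofFinite C
    set u : ℂ := (H13.TI.coef (F.mu o) (F.rep o) : ℂ) - (ε : ℂ) with hu
    have hdiff : ∀ φ : C →* ℂˣ, φ ≠ 1 →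
        (H13.TI.coef (F.mu o) φ : ℂ) - (ε : ℂ) * H13.TI.nn φ (F.rep o) = u := by
      intro φ hφ
      obtain ⟨s, hs⟩ := F.rep_all φ hφ
      have h1 := H13.TI.coef_diff F (F.mu o) s o
      rw [H13.TI.coef_rel _ hs, hεe, if_pos rfl] at h1
      by_cases hso : s = o
      · subst hso
        rw [H13.TI.nn_of_rel hH (F.rep_ne _) hs, mul_one, hu, ← H13.TI.coef_rel _ hs]
      · rw [if_neg (fun e => hso (F.mu_inj e).symm)] at h1
        rw [H13.TI.nn_of_not_rel (fun h => hso (F.rep_inj _ _ (H13.TI.rel_trans C hs (H13.TI.rel_symm C h))))]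
        rw [hu]
        linear_combination h1
    have hsum : (F.mu o : G → ℂ) (x : G) - (ε : ℂ) * orbSum (F.rep o) x =
        ∑ φ : C →* ℂˣ, ((H13.TI.coef (F.mu o) φ : ℂ) - (ε : ℂ) * H13.TI.nn φ (F.rep o)) * (φ x : ℂ) := by
      rw [res_eq_sum hd, orbSum_eq_nn, Finset.mul_sum, ← Finset.sum_sub_distrib]
      exact Finset.sum_congr rfl fun φ _ => by ring
    have hz := sum_linear_eval (A := C) hcomm x
    rw [if_neg hx, ← Finset.add_sum_erase _ _ (Finset.mem_univ (1 : C →* ℂˣ))] at hz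
    rw [← Finset.add_sum_erase _ _ (Finset.mem_univ (1 : C →* ℂˣ)),
      Finset.sum_congr rfl (fun φ hφ => by rw [hdiff φ (Finset.ne_of_mem_erase hφ)]), ← Finset.mul_sum,
      H13.TI.nn_one_left (F.rep_ne o)] at hsum
    simp only [MonoidHom.one_apply, Units.val_one] at hz hsum
    have hk : (κ : ℂ) = (H13.TI.coef (F.mu o) (1 : C →* ℂˣ) : ℂ) - u := by
      rw [hκ, hu]; push_cast; ring
    linear_combination hsum + u * hz - hk
  intro s x hx
  have h1 := congrFun (F.diff s o) (x : G)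
  rw [Pi.sub_apply, H13.TI.ind_sub_apply hH, Pi.smul_apply, Pi.sub_apply, smul_eq_mul, hεe,
    Finset.sum_sub_distrib, mul_sub] at h1
  have h2 : orbSum (F.rep s) x - orbSum (F.rep o) x =
      (ε : ℂ) * ((F.mu s : G → ℂ) x - (F.mu o : G → ℂ) x) := h1
  have he2 : (ε : ℂ) * (ε : ℂ) = 1 := by rcases hε with h | h <;> simp [h]
  have h3 := ho x hx
  linear_combination h3 - (ε : ℂ) * h2 - ((F.mu s : G → ℂ) x - (F.mu o : G → ℂ) x) * he2

/-- Off the exceptional characters, irreducible characters are constant on `C(T) \ {1}`. -/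
theorem value_other [Fintype (C →* ℂˣ)] (hd : Tight T) (F : H13.TI.Family C) (χ : IrrCharacter G)
    (hχ : ∀ s, χ ≠ F.mu s) :
    ∃ k : ℂ, ∀ x : C, x ≠ 1 → (χ : G → ℂ) (x : G) = k := by
  classical
  haveI := Fintype.ofFinite C
  have hcomm : ∀ a b : C, a * b = b * a := fun a b => Subtype.ext (hd.cT_comm a.2 b.2)
  set u : ℂ := (H13.TI.coef χ (F.rep F.zeroIx) : ℂ)
  refine ⟨(H13.TI.coef χ (1 : C →* ℂˣ) : ℂ) - u, fun x hx => ?_⟩
  have hc : ∀ φ : C →* ℂˣ, φ ≠ 1 → (H13.TI.coef χ φ : ℂ) = u := by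
    intro φ hφ
    obtain ⟨s, hs⟩ := F.rep_all φ hφ
    have h1 := H13.TI.coef_diff F χ s F.zeroIx
    rw [H13.TI.coef_rel _ hs, if_neg (hχ _), if_neg (hχ _), sub_self, mul_zero, sub_eq_zero] at h1
    exact h1
  have hsum := res_eq_sum hd χ x
  have hz := sum_linear_eval (A := C) hcomm x
  rw [if_neg hx, ← Finset.add_sum_erase _ _ (Finset.mem_univ (1 : C →* ℂˣ))] at hz
  rw [← Finset.add_sum_erase _ _ (Finset.mem_univ (1 : C →* ℂˣ)),
    Finset.sum_congr rfl (fun φ hφ => by rw [hc φ (Finset.ne_of_mem_erase hφ)]), ← Finset.mul_sum] at hsum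
  simp only [MonoidHom.one_apply, Units.val_one] at hz hsum
  linear_combination hsum + u * hz

/-- The number of ways of writing `y` as a product of two conjugates of `t`. -/
theorem pair_count [DecidableEq G] (t y : G) :
    (Nat.card G : ℂ) * ∑ χ : IrrCharacter G, (χ : G → ℂ) t ^ 2 * (χ : G → ℂ) y⁻¹ / (χ : G → ℂ) 1 =
      ((Finset.univ.filter fun p : G × G => (p.1 * t * p.1⁻¹) * (p.2 * t * p.2⁻¹) = y).card : ℂ) := by
  classical
  have h : ∑ p : G × G, ∑ χ : IrrCharacter G,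
      (χ : G → ℂ) 1 * (χ : G → ℂ) (y⁻¹ * (p.1 * t * p.1⁻¹) * (p.2 * t * p.2⁻¹)) =
      (Nat.card G : ℂ) * ((Finset.univ.filter fun p : G × G => (p.1 * t * p.1⁻¹) * (p.2 * t * p.2⁻¹) = y).card : ℂ) := by
    rw [Finset.natCast_card_filter, Finset.mul_sum]
    refine Finset.sum_congr rfl fun p _ => ?_
    rw [H12.regular_eq_sum]
    by_cases hp : p.1 * t * p.1⁻¹ * (p.2 * t * p.2⁻¹) = y
    · rw [if_pos hp, if_pos (by rw [mul_assoc y⁻¹, hp, inv_mul_cancel]), mul_one]
    · rw [if_neg hp, if_neg (fun h => hp (inv_mul_eq_one.1 (by rwa [← mul_assoc])).symm), mul_zero]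
  rw [Finset.sum_comm] at h
  have hG : (Nat.card G : ℂ) ≠ 0 := Nat.cast_ne_zero.2 Nat.card_pos.ne'
  refine mul_left_cancel₀ hG ?_
  rw [← h, Finset.mul_sum, Finset.mul_sum]
  refine Finset.sum_congr rfl fun χ _ => ?_
  rw [← Finset.mul_sum, Fintype.sum_prod_type]
  simp only [H12.irr_class_product]
  have h1 : ∀ c : G, (Nat.card G : ℂ) * ((χ : G → ℂ) (y⁻¹ * (c * t * c⁻¹)) * (χ : G → ℂ) t) / (χ : G → ℂ) 1 =
      ((Nat.card G : ℂ) * (χ : G → ℂ) t / (χ : G → ℂ) 1) * (χ : G → ℂ) (y⁻¹ * (c * t * c⁻¹)) := fun c => by ring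
  simp only [h1, ← Finset.mul_sum, H12.irr_class_product]
  have := H12.irr_apply_one_ne_zero χ
  field_simp

theorem card_conj_fibre (t v : G) (h : ∃ c : G, c * t * c⁻¹ = v) :
    Nat.card {c : G // c * t * c⁻¹ = v} = Nat.card (Subgroup.centralizer ({t} : Set G)) := by
  obtain ⟨c₀, hc₀⟩ := h
  refine Nat.card_congr
    { toFun := fun c => ⟨c₀⁻¹ * c.1, Subgroup.mem_centralizer_singleton_iff.2 ?_⟩
      invFun := fun z => ⟨c₀ * z.1, ?_⟩
      left_inv := fun c => Subtype.ext (mul_inv_cancel_left _ _)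
      right_inv := fun z => Subtype.ext (inv_mul_cancel_left _ _) }
  · calc c₀⁻¹ * c.1 * t = c₀⁻¹ * (c.1 * t * (c.1)⁻¹) * c.1 := by simp [mul_assoc]
      _ = c₀⁻¹ * (c₀ * t * c₀⁻¹) * c.1 := by rw [c.2, hc₀]
      _ = t * (c₀⁻¹ * c.1) := by simp [mul_assoc]
  · rw [← hc₀, mul_inv_rev, ← mul_assoc, mul_assoc c₀, Subgroup.mem_centralizer_singleton_iff.1 z.2]
    simp [mul_assoc]

theorem Tight.card_pairs [DecidableEq G] (hd : Tight T) {t : G} (htT : t ∈ (T : Subgroup G))
    (ht : orderOf t = 2) :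
    (Finset.univ.filter fun p : G × G => (p.1 * t * p.1⁻¹) * (p.2 * t * p.2⁻¹) = t).card =
      ((cT T).relIndex (nT T) - 1) * Nat.card C ^ 2 := by
  classical
  have hV := hd.card_invol_T
  set V := {v : G // (orderOf v = 2 ∧ v ∈ (T : Subgroup G)) ∧ v ≠ t}
  haveI : Finite V := Subtype.finite
  have hVc : Nat.card V = (cT T).relIndex (nT T) - 1 := by
    rw [← hV, Nat.card_eq_fintype_card, Nat.card_eq_fintype_card, Fintype.card_subtype, Fintype.card_subtype,
      ← Finset.card_erase_of_mem (a := t) (by simp [htT, ht])]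
    congr 1
    ext v
    simp [and_comm]
  have hfib : ∀ v : G, orderOf v = 2 → v ∈ (T : Subgroup G) →
      Nat.card {c : G // c * t * c⁻¹ = v} = Nat.card C := fun v hv hvT => by
    rw [card_conj_fibre t v (isConj_iff.1 (H67.se_isConj hd.stronglyEmbedded ht hv)),
      hd.centralizer_eq htT ht]
  rw [← hVc, ← Fintype.card_subtype, ← Nat.card_eq_fintype_card]
  have hpartner : ∀ v : V, orderOf (v.1 * t) = 2 ∧ v.1 * t ∈ (T : Subgroup G) := fun v => by
    haveI : Fact (Nat.Prime 2) := ⟨Nat.prime_two⟩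
    refine ⟨orderOf_eq_prime ?_ fun h => v.2.2 ?_, mul_mem v.2.1.2 htT⟩
    · rw [(show Commute v.1 t from hd.T_comm v.2.1.2 htT).mul_pow, sq, sq, H67.invol_sq v.2.1.1, H67.invol_sq ht,
        one_mul]
    · rw [mul_eq_one_iff_eq_inv.1 h, inv_eq_of_mul_eq_one_right (H67.invol_sq ht)]
  rw [Nat.card_congr (show {p : G × G // (p.1 * t * p.1⁻¹) * (p.2 * t * p.2⁻¹) = t} ≃
      Σ v : V, {c : G // c * t * c⁻¹ = v.1} × {a : G // a * t * a⁻¹ = v.1 * t} from
    { toFun := fun p =>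
        have hp := hd.product_invol (H67.invol_conj ht p.1.1) (H67.invol_conj ht p.1.2)
          (by rw [p.2]; exact hd.T_le_cT htT) (by rw [p.2]; intro e; rw [e, orderOf_one] at ht; omega)
        ⟨⟨p.1.1 * t * p.1.1⁻¹, ⟨H67.invol_conj ht p.1.1, hp.1⟩, fun e => by
          have := p.2
          rw [e, mul_eq_left, conj_eq_one_iff] at this
          rw [this, orderOf_one] at ht
          omega⟩, ⟨p.1.1, rfl⟩, ⟨p.1.2, by
            have e := p.2
            calc p.1.2 * t * p.1.2⁻¹ = (p.1.1 * t * p.1.1⁻¹)⁻¹ * t :=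
                  eq_inv_mul_of_mul_eq e
              _ = p.1.1 * t * p.1.1⁻¹ * t := by
                rw [inv_eq_of_mul_eq_one_right (H67.invol_sq (H67.invol_conj ht p.1.1))]⟩⟩
      invFun := fun x => ⟨(x.2.1.1, x.2.2.1), by
        show (x.2.1.1 * t * x.2.1.1⁻¹) * (x.2.2.1 * t * x.2.2.1⁻¹) = t
        rw [x.2.1.2, x.2.2.2, ← mul_assoc, H67.invol_sq x.1.2.1.1, one_mul]⟩
      left_inv := fun p => rfl
      right_inv := fun x => by
        obtain ⟨⟨v, hv⟩, ⟨c, hc⟩, ⟨a, ha⟩⟩ := x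
        dsimp only at hc
        subst v
        rfl })]
  haveI : Fintype V := Fintype.ofFinite V
  rw [Nat.card_sigma, Finset.sum_congr rfl fun v _ => by
      rw [Nat.card_prod, hfib v.1 v.2.1.1 v.2.1.2, hfib (v.1 * t) (hpartner v).1 (hpartner v).2],
    Finset.sum_const, Finset.card_univ, smul_eq_mul, ← Nat.card_eq_fintype_card, sq]

open H13.TI in
theorem orbit_sum_eq [Fintype (C →* ℂˣ)] (hd : Tight T) (F : H13.TI.Family C)
    (g : (C →* ℂˣ) → ℂ) (hg : ∀ θ φ, Rel C θ φ → g θ = g φ) (a b : C) :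
    ∑ s, g (F.rep s) * (orbSum (F.rep s) a - orbSum (F.rep s) b) =
      ∑ θ : C →* ℂˣ, g θ * ((θ a : ℂ) - (θ b : ℂ)) := by
  classical
  have hH := hd.hyp
  rw [← Finset.add_sum_erase _ (fun θ : C →* ℂˣ => g θ * ((θ a : ℂ) - (θ b : ℂ))) (Finset.mem_univ 1)]
  simp only [MonoidHom.one_apply, Units.val_one, sub_self, mul_zero, zero_add]
  have e1 : ((Finset.univ : Finset (C →* ℂˣ)).erase 1) = (Finset.univ : Finset (Fin F.w)).biUnion
      fun i => Finset.univ.filter fun θ => Rel C (F.rep i) θ := by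
    ext θ
    simp only [Finset.mem_erase, Finset.mem_univ, and_true, Finset.mem_biUnion, Finset.mem_filter, true_and]
    exact ⟨F.rep_all θ, fun ⟨i, h⟩ => rel_ne_one C h (F.rep_ne i)⟩
  rw [e1, Finset.sum_biUnion (fun i _ j _ hij => by
    rw [Function.onFun, Finset.disjoint_left]
    intro θ h1 h2
    simp only [Finset.mem_filter] at h1 h2
    exact hij (F.rep_inj i j (rel_trans C h1.2 (rel_symm C h2.2))))]
  refine Finset.sum_congr rfl fun s _ => ?_
  have hexp : ∀ x : C, orbSum (F.rep s) x = ∑ θ ∈ Finset.univ.filter (fun θ => Rel C (F.rep s) θ), (θ x : ℂ) := by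
    intro x
    rw [orbSum_eq_nn, Finset.sum_filter]
    refine Finset.sum_congr rfl fun θ _ => ?_
    by_cases h : Rel C (F.rep s) θ
    · rw [if_pos h, nn_of_rel hH (F.rep_ne s) h, one_mul]
    · rw [if_neg h, nn_of_not_rel h, zero_mul]
  rw [hexp, hexp, ← Finset.sum_sub_distrib, Finset.mul_sum]
  exact Finset.sum_congr rfl fun θ hθ => by rw [hg _ _ (Finset.mem_filter.1 hθ).2]

end H39.AIC
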