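import Mathlib
import Cfsg.Agent.H39.AIC.Chars

/-!
In the tight case `C(T) = T` is elementary abelian.
-/

set_option autoImplicit false
set_option maxHeartbeats 1600000

open Cfsg

namespace H39.AIC

universe u

variable {G : Type u} [Group G] [Fintype G] {T : Sylow 2 G}

attribute [local instance] H13.TI.fintypeNormalizer

local notation "C" => cT T
local notation "N" => Subgroup.normalizer (cT T : Set G)

theorem Tight.exists_invol_pair (hd : Tight T) : 2 ≤ (cT T).relIndex (nT T) := by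
  classical
  haveI : Fact (Nat.Prime 2) := ⟨Nat.prime_two⟩
  by_contra h
  apply hd.nc
  letI : CommGroup (T : Subgroup G) :=
    { (inferInstance : Group (T : Subgroup G)) with
      mul_comm := fun a b => Subtype.ext (hd.T_comm a.2 b.2) }
  refine isCyclic_of_unique_invol T.isPGroup' ?_
  have h1 := hd.card_invol_T
  have h2 : Nat.card {x : (T : Subgroup G) // orderOf x = 2} =
      Nat.card {t : G // orderOf t = 2 ∧ t ∈ (T : Subgroup G)} :=
    Nat.card_congr
      { toFun := fun x => ⟨x.1, by rw [Subgroup.orderOf_coe]; exact x.2, x.1.2⟩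
        invFun := fun x => ⟨⟨x.1, x.2.2⟩, by rw [← Subgroup.orderOf_coe]; exact x.2.1⟩
        left_inv := fun x => rfl
        right_inv := fun x => rfl }
  omega

/-- The elements of square one of `C(T)`. -/
theorem Tight.omega_dvd (hd : Tight T) : (cT T).relIndex (nT T) + 1 ∣ Nat.card C := by
  classical
  haveI : Fact (Nat.Prime 2) := ⟨Nat.prime_two⟩
  let O : Subgroup C :=
    { carrier := {x | x * x = 1}
      one_mem' := one_mul 1
      mul_mem' := fun {a b} (ha : a * a = 1) (hb : b * b = 1) => by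
        have hc : b * a = a * b := Subtype.ext (hd.cT_comm b.2 a.2)
        show a * b * (a * b) = 1
        rw [mul_assoc, ← mul_assoc b a, hc, mul_assoc, ← mul_assoc a a, ha, one_mul, hb]
      inv_mem' := fun {a} (ha : a * a = 1) => by
        show a⁻¹ * a⁻¹ = 1
        rw [← mul_inv_rev, ha, inv_one] }
  have hO : Nat.card O = (cT T).relIndex (nT T) + 1 := by
    rw [← hd.card_invol_T, ← Finite.card_option]
    refine Nat.card_congr
      { toFun := fun x => if h : ((x : C) : G) = 1 then none else some ⟨((x : C) : G),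
          orderOf_eq_prime (by rw [sq]; exact congrArg Subtype.val x.2) h,
          invol_mem_T (cT_le_nT (x : C).2) (orderOf_eq_prime (by rw [sq]; exact congrArg Subtype.val x.2) h)⟩
        invFun := fun o => o.elim 1 fun t => ⟨⟨t.1, hd.T_le_cT t.2.2⟩, Subtype.ext (H67.invol_sq t.2.1)⟩
        left_inv := fun x => ?_
        right_inv := fun o => ?_ }
    · by_cases h : ((x : C) : G) = 1
      · simp only [dif_pos h]
        exact Subtype.ext (Subtype.ext h.symm)
      · simp only [dif_neg h]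
        rfl
    · rcases o with _ | ⟨t, ht, htT⟩
      · simp
      · have : t ≠ 1 := fun e => by rw [e, orderOf_one] at ht; omega
        simp [this]
  exact hO ▸ Subgroup.card_subgroup_dvd_card O

open H13.TI in
/-- In the tight case every nontrivial element of `C(T)` is an involution. -/
theorem Tight.sq_eq_one (hd : Tight T) : ∀ z ∈ C, z ^ 2 = 1 := by
  classical
  intro z₀ hz₀
  by_contra hzsq
  have hm2 := hd.exists_invol_pair
  set m := (cT T).relIndex (nT T) with hm
  have hz1 : z₀ ≠ 1 := fun h => hzsq (by rw [h, one_pow])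
  have hrel : (cT T).relIndex N = m := by rw [hd.normalizer_cT]
  have hcomm : ∀ a b : C, a * b = b * a := fun a b => Subtype.ext (hd.cT_comm a.2 b.2)
  have hcm : commutator C = ⊥ := by
    rw [commutator_def, Subgroup.commutator_eq_bot_iff_le_centralizer]
    intro a _
    exact Subgroup.mem_centralizer_iff.2 fun b _ => hcomm b a
  obtain ⟨t, htT, ht⟩ := hd.exists_invol
  have hnC : 1 < (commutator C).index := by
    rw [hcm, Subgroup.index_bot]
    haveI : Nontrivial C := ⟨⟨⟨z₀, hz₀⟩, 1, fun h => hz1 (congrArg Subtype.val h)⟩⟩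
    exact Finite.one_lt_card
  obtain ⟨F⟩ := exists_family hd.hyp hnC
  have hC : Nat.card C = m * F.w + 1 := by
    have := F.card_eq
    rwa [hcm, Subgroup.index_bot, hrel] at this
  -- a large `C(T)`
  have hgt : m + 1 < Nat.card C := by
    obtain ⟨k, hk⟩ := hd.omega_dvd
    rw [← hm] at hk
    refine lt_of_le_of_ne (Nat.le_of_dvd Nat.card_pos hd.omega_dvd) fun h => ?_
    -- otherwise all elements of `C(T)` square to one
    haveI : Fact (Nat.Prime 2) := ⟨Nat.prime_two⟩
    have hsub : ∀ x : C, (x : G) = 1 ∨ (orderOf (x : G) = 2 ∧ (x : G) ∈ (T : Subgroup G)) := by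
      by_contra hcon
      push Not at hcon
      obtain ⟨x, hx1, hx2⟩ := hcon
      have hle := Nat.card_le_card_of_injective
        (fun o : Option (Option {v : G // orderOf v = 2 ∧ v ∈ (T : Subgroup G)}) =>
          (o.elim x fun o' => o'.elim 1 fun v => (⟨v.1, hd.T_le_cT v.2.2⟩ : C))) ?_
      · rw [Finite.card_option, Finite.card_option, hd.card_invol_T, ← hm] at hle
        omega
      · rintro (_ | _ | ⟨a, ha, haT⟩) (_ | _ | ⟨b, hb, hbT⟩) hab <;>
          simp only [Option.elim, Subtype.ext_iff, Subgroup.coe_one] at hab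
        · rfl
        · exact absurd hab hx1
        · exact absurd (hab ▸ hbT) (hx2 (hab ▸ hb))
        · exact absurd hab.symm hx1
        · rfl
        · rw [← hab, orderOf_one] at hb; omega
        · exact absurd (hab.symm ▸ haT) (hx2 (hab.symm ▸ ha))
        · rw [hab, orderOf_one] at ha; omega
        · simp only [hab]
    apply hzsq
    rcases hsub ⟨z₀, hz₀⟩ with h' | ⟨h', -⟩
    · exact absurd h' hz1
    · rw [← h']; exact pow_orderOf_eq_one z₀
  have hw : m + 2 ≤ F.w := by
    obtain ⟨k, hk⟩ := hd.omega_dvd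
    rw [← hm] at hk
    rw [hk] at hgt hC
    have hk1 : 2 ≤ k := by
      by_contra h
      interval_cases k <;> omega
    have hkw : k ≤ F.w := by
      by_contra h
      have : (m + 1) * k ≥ (m + 1) * (F.w + 1) := Nat.mul_le_mul_left _ (by omega)
      nlinarith
    have e : m * (F.w - k) + 1 = k := by
      rw [Nat.mul_sub]
      rw [add_mul, one_mul] at hC
      have : m * k ≤ m * F.w := Nat.mul_le_mul_left _ hkw
      omega
    have h1 : 1 ≤ F.w - k := by
      by_contra h
      have : F.w - k = 0 := by omega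
      rw [this, mul_zero] at e
      omega
    have : m * 1 ≤ m * (F.w - k) := Nat.mul_le_mul_left _ h1
    omega
  haveI : Finite (C →* ℂˣ) := Nat.finite_of_card_ne_zero (by
    rw [H12.card_monoidHom_units]
    exact Subgroup.index_ne_zero_of_finite)
  haveI := Fintype.ofFinite (C →* ℂˣ)
  obtain ⟨ε, κ, hε, hμ⟩ := value_exceptional hd F
  -- the two elements to compare
  set tC : C := ⟨t, hd.T_le_cT htT⟩
  set zC : C := ⟨z₀⁻¹, inv_mem hz₀⟩
  have htC1 : tC ≠ 1 := fun h => by
    have : t = 1 := congrArg Subtype.val h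
    rw [this, orderOf_one] at ht; omega
  have hzC1 : zC ≠ 1 := fun h => hz1 (inv_eq_one.1 (congrArg Subtype.val h))
  have hti : t⁻¹ = t := inv_eq_of_mul_eq_one_right (H67.invol_sq ht)
  -- no pair of involutions multiplies to `z₀`
  have hno : ∀ a b : G, orderOf a = 2 → orderOf b = 2 → a * b ≠ z₀ := fun a b ha hb h => by
    have := (hd.product_invol ha hb (h.symm ▸ hz₀) (h.symm ▸ hz1)).2.2
    rw [h] at this
    exact hzsq (by rw [← this]; exact pow_orderOf_eq_one z₀)
  have hSz : (Finset.univ.filter fun p : G × G => (p.1 * t * p.1⁻¹) * (p.2 * t * p.2⁻¹) = z₀).card = 0 := by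
    rw [Finset.card_eq_zero, Finset.filter_eq_empty_iff]
    exact fun p _ => hno _ _ (H67.invol_conj ht _) (H67.invol_conj ht _)
  -- the class multiplication coefficients
  have hdiffsum : (Nat.card G : ℂ) * ∑ χ : IrrCharacter G,
      (χ : G → ℂ) t ^ 2 * ((χ : G → ℂ) t - (χ : G → ℂ) z₀⁻¹) / (χ : G → ℂ) 1 =
        (((m - 1) * Nat.card C ^ 2 : ℕ) : ℂ) := by
    have h1 := pair_count t t
    have h2 := pair_count t z₀
    rw [hd.card_pairs htT ht, ← hm, hti] at h1
    rw [hSz, Nat.cast_zero] at h2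
    rw [← h1]
    conv_rhs => rw [← sub_zero ((Nat.card G : ℂ) * _), ← h2, ← mul_sub, ← Finset.sum_sub_distrib]
    congr 1
    exact Finset.sum_congr rfl fun χ _ => by ring
  -- only exceptional characters contribute
  have honly : ∑ χ : IrrCharacter G, (χ : G → ℂ) t ^ 2 * ((χ : G → ℂ) t - (χ : G → ℂ) z₀⁻¹) / (χ : G → ℂ) 1 =
      ∑ s, (F.mu s : G → ℂ) t ^ 2 * ((F.mu s : G → ℂ) t - (F.mu s : G → ℂ) z₀⁻¹) / (F.mu s : G → ℂ) 1 := by
    rw [← Finset.sum_image (f := fun χ : IrrCharacter G =>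
      (χ : G → ℂ) t ^ 2 * ((χ : G → ℂ) t - (χ : G → ℂ) z₀⁻¹) / (χ : G → ℂ) 1)
      (s := (Finset.univ : Finset (Fin F.w))) (g := F.mu) (fun a _ b _ h => F.mu_inj h)]
    refine (Finset.sum_subset (Finset.subset_univ _) fun χ _ hχ => ?_).symm
    simp only [Finset.mem_image, Finset.mem_univ, true_and, not_exists] at hχ
    obtain ⟨k, hk⟩ := value_other hd F χ fun s e => hχ s e.symm
    have e1 : (χ : G → ℂ) t = k := hk tC htC1
    have e2 : (χ : G → ℂ) z₀⁻¹ = k := hk zC hzC1
    rw [e1, e2, sub_self, mul_zero, zero_div]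
  -- common degree
  set d : ℕ := H12.degree (F.mu F.zeroIx : G → ℂ) with hd'
  have hdeg : ∀ s, (F.mu s : G → ℂ) 1 = (d : ℂ) := by
    intro s
    have h1 := congrFun (F.diff s F.zeroIx) 1
    rw [Pi.sub_apply, ind_one_apply, ind_one_apply, sub_self, Pi.smul_apply, Pi.sub_apply, smul_eq_mul] at h1
    have h2 := (mul_eq_zero.1 h1.symm).resolve_left F.eps_ne_zero
    rw [sub_eq_zero.1 h2, hd', H12.irr_apply_one]
  -- the orbit function
  set g : (C →* ℂˣ) → ℂ := fun θ => ((ε : ℂ) * orbSum θ tC + κ) ^ 2 with hg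
  have hgrel : ∀ θ φ, Rel C θ φ → g θ = g φ := by
    rintro θ _ ⟨n, rfl⟩
    simp only [hg, orbSum_tw]
  have hterm : ∀ s, (F.mu s : G → ℂ) t ^ 2 * ((F.mu s : G → ℂ) t - (F.mu s : G → ℂ) z₀⁻¹) / (F.mu s : G → ℂ) 1 =
      (ε : ℂ) / d * (g (F.rep s) * (orbSum (F.rep s) tC - orbSum (F.rep s) zC)) := by
    intro s
    have e1 : (F.mu s : G → ℂ) t = _ := hμ s tC htC1
    have e2 : (F.mu s : G → ℂ) z₀⁻¹ = _ := hμ s zC hzC1
    rw [e1, e2, hdeg, hg]
    ring
  rw [honly, Finset.sum_congr rfl (fun s _ => hterm s), ← Finset.mul_sum, orbit_sum_eq hd F g hgrel] at hdiffsum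
  -- evaluation of the sum over all linear characters
  have hN : Nat.card N = m * Nat.card C := by
    have h := ((cT T).subgroupOf N).card_mul_index
    rw [Nat.card_congr (Subgroup.subgroupOfEquivOfLe Subgroup.le_normalizer).toEquiv] at h
    rw [← h, show ((cT T).subgroupOf N).index = m from hrel, mul_comm]
  have hCne : (Nat.card C : ℂ) ≠ 0 := Nat.cast_ne_zero.2 Nat.card_pos.ne'
  have hN' : ∀ n : N, (n : G) ∈ nT T := fun n => hd.normalizer_cT ▸ n.2
  have hV : ∀ n : N, orderOf ((n : G) * t * (n : G)⁻¹) = 2 ∧ (n : G) * t * (n : G)⁻¹ ∈ (T : Subgroup G) :=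
    fun n => ⟨H67.invol_conj ht _, conj_mem_T (hN' n) htT⟩
  have hlin : ∀ y : C, ∑ θ : C →* ℂˣ, (θ y : ℂ) * orbSum θ tC =
      ((Finset.univ.filter fun n : N => (y : G) * ((n : G) * t * (n : G)⁻¹) = 1).card : ℂ) := by
    intro y
    simp only [orbSum, Finset.mul_sum]
    rw [Finset.sum_comm, Finset.natCast_card_filter]
    refine Finset.sum_congr rfl fun n _ => ?_
    have : ∀ θ : C →* ℂˣ, (θ y : ℂ) * ((Nat.card C : ℂ)⁻¹ * (tw C n θ tC : ℂ)) =
        (Nat.card C : ℂ)⁻¹ * (θ (y * cj C n tC) : ℂ) := fun θ => by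
      rw [map_mul, Units.val_mul, tw_apply]; ring
    rw [Finset.sum_congr rfl fun θ _ => this θ, ← Finset.mul_sum, sum_linear_eval hcomm]
    by_cases h : (y : G) * ((n : G) * t * (n : G)⁻¹) = 1
    · rw [if_pos (Subtype.ext h), if_pos h, inv_mul_cancel₀ hCne]
    · rw [if_neg (fun e => h (congrArg Subtype.val e)), if_neg h, mul_zero]
  have hquad : ∀ y : C, ∑ θ : C →* ℂˣ, (θ y : ℂ) * orbSum θ tC ^ 2 =
      (Nat.card C : ℂ)⁻¹ * ((Finset.univ.filter fun p : N × N =>
        (y : G) * ((p.1 : G) * t * (p.1 : G)⁻¹) * ((p.2 : G) * t * (p.2 : G)⁻¹) = 1).card : ℂ) := by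
    intro y
    have step : ∀ θ : C →* ℂˣ, (θ y : ℂ) * orbSum θ tC ^ 2 = ∑ n : N, ∑ k : N,
        (Nat.card C : ℂ)⁻¹ * (Nat.card C : ℂ)⁻¹ * (θ (y * cj C n tC * cj C k tC) : ℂ) := fun θ => by
      rw [orbSum, mul_pow, sq, sq, Finset.sum_mul_sum, Finset.mul_sum, Finset.mul_sum]
      refine Finset.sum_congr rfl fun n _ => ?_
      rw [Finset.mul_sum, Finset.mul_sum]
      refine Finset.sum_congr rfl fun k _ => ?_
      rw [map_mul, map_mul, Units.val_mul, Units.val_mul, tw_apply, tw_apply]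
      ring
    rw [Finset.sum_congr rfl fun θ _ => step θ, Finset.sum_comm, Finset.natCast_card_filter, Finset.mul_sum,
      Fintype.sum_prod_type]
    refine Finset.sum_congr rfl fun n _ => ?_
    rw [Finset.sum_comm]
    refine Finset.sum_congr rfl fun k _ => ?_
    rw [← Finset.mul_sum, sum_linear_eval hcomm]
    by_cases h : (y : G) * ((n : G) * t * (n : G)⁻¹) * ((k : G) * t * (k : G)⁻¹) = 1
    · rw [if_pos (Subtype.ext h), if_pos h, mul_one, mul_assoc, inv_mul_cancel₀ hCne, mul_one]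
    · rw [if_neg (fun e => h (congrArg Subtype.val e)), if_neg h, mul_zero, mul_zero]
  have hsq2 : ∀ n : N, ((n : G) * t * (n : G)⁻¹) * ((n : G) * t * (n : G)⁻¹) = 1 := fun n => H67.invol_sq (hV n).1
  have hcmt : ∀ n : N, (n : G) * t * (n : G)⁻¹ = t ↔ (n : G) ∈ C := by
    intro n
    refine Iff.trans ?_ (SetLike.ext_iff.1 (hd.centralizer_eq htT ht) (n : G))
    rw [Subgroup.mem_centralizer_singleton_iff, mul_inv_eq_iff_eq_mul]
  have hcount1 : (Finset.univ.filter fun n : N => t * ((n : G) * t * (n : G)⁻¹) = 1).card = Nat.card C := by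
    rw [← Fintype.card_subtype, ← Nat.card_eq_fintype_card]
    refine Nat.card_congr
      { toFun := fun n => ⟨(n.1 : G), (hcmt n.1).1 (by
          have := eq_inv_of_mul_eq_one_right n.2; rwa [hti] at this)⟩
        invFun := fun c => ⟨⟨(c : G), Subgroup.le_normalizer c.2⟩, by
          rw [(hcmt ⟨(c : G), Subgroup.le_normalizer c.2⟩).2 c.2]; exact H67.invol_sq ht⟩
        left_inv := fun n => rfl
        right_inv := fun c => rfl }
  have hcount0 : (Finset.univ.filter fun n : N => z₀⁻¹ * ((n : G) * t * (n : G)⁻¹) = 1).card = 0 := by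
    rw [Finset.card_eq_zero, Finset.filter_eq_empty_iff]
    intro n _ h
    exact hzsq (by rw [show z₀ = (n : G) * t * (n : G)⁻¹ from inv_mul_eq_one.1 h, sq]; exact hsq2 n)
  have hcount2 : (Finset.univ.filter fun p : N × N =>
      t * ((p.1 : G) * t * (p.1 : G)⁻¹) * ((p.2 : G) * t * (p.2 : G)⁻¹) = 1).card = (m - 1) * Nat.card C ^ 2 := by
    rw [← hd.card_pairs htT ht, ← Fintype.card_subtype, ← Fintype.card_subtype]
    have hin : ∀ a : G, a * t * a⁻¹ ∈ (T : Subgroup G) → a ∈ N := fun a h => by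
      rw [hd.normalizer_cT]
      refine H65.se_conj_mem hd.stronglyEmbedded (g := a) (H67.invol_conj ht a) (T_le_nT h) ?_
      rw [show a⁻¹ * (a * t * a⁻¹) * a = t by simp [mul_assoc]]
      exact T_le_nT htT
    refine Fintype.card_congr
      { toFun := fun p => ⟨((p.1.1 : G), (p.1.2 : G)), by
          have h := eq_inv_of_mul_eq_one_right p.2
          rw [mul_inv_rev, hti, inv_eq_of_mul_eq_one_right (hsq2 p.1.1)] at h
          show (p.1.1 : G) * t * (p.1.1 : G)⁻¹ * ((p.1.2 : G) * t * (p.1.2 : G)⁻¹) = t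
          rw [h, ← mul_assoc, hsq2, one_mul]⟩
        invFun := fun p => ⟨(⟨p.1.1, hin _ (hd.product_invol (H67.invol_conj ht p.1.1) (H67.invol_conj ht p.1.2)
              (by rw [p.2]; exact hd.T_le_cT htT) (by rw [p.2]; intro e; rw [e, orderOf_one] at ht; omega)).1⟩,
            ⟨p.1.2, hin _ (hd.product_invol (H67.invol_conj ht p.1.1) (H67.invol_conj ht p.1.2)
              (by rw [p.2]; exact hd.T_le_cT htT) (by rw [p.2]; intro e; rw [e, orderOf_one] at ht; omega)).2.1⟩), by
          show t * (p.1.1 * t * p.1.1⁻¹) * (p.1.2 * t * p.1.2⁻¹) = 1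
          rw [mul_assoc, p.2, H67.invol_sq ht]⟩
        left_inv := fun p => rfl
        right_inv := fun p => rfl }
  have hcount3 : (Finset.univ.filter fun p : N × N =>
      z₀⁻¹ * ((p.1 : G) * t * (p.1 : G)⁻¹) * ((p.2 : G) * t * (p.2 : G)⁻¹) = 1).card = 0 := by
    rw [Finset.card_eq_zero, Finset.filter_eq_empty_iff]
    intro p _ h
    rw [mul_assoc] at h
    exact hno _ _ (hV p.1).1 (hV p.2).1 (inv_mul_eq_one.1 h).symm
  have hzero : ∀ y : C, y ≠ 1 → ∑ θ : C →* ℂˣ, (θ y : ℂ) = 0 := fun y hy => by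
    rw [sum_linear_eval hcomm, if_neg hy]
  have heval : ∑ θ : C →* ℂˣ, g θ * ((θ tC : ℂ) - (θ zC : ℂ)) =
      (Nat.card C : ℂ) * (((m - 1 : ℕ) : ℂ) + 2 * (ε : ℂ) * κ) := by
    have he2 : (ε : ℂ) * (ε : ℂ) = 1 := by rcases hε with h | h <;> simp [h]
    have : ∀ θ : C →* ℂˣ, g θ * ((θ tC : ℂ) - (θ zC : ℂ)) =
        ((θ tC : ℂ) * orbSum θ tC ^ 2 - (θ zC : ℂ) * orbSum θ tC ^ 2) +
          2 * (ε : ℂ) * κ * ((θ tC : ℂ) * orbSum θ tC - (θ zC : ℂ) * orbSum θ tC) +
          (κ : ℂ) ^ 2 * ((θ tC : ℂ) - (θ zC : ℂ)) := fun θ => by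
      simp only [hg]
      linear_combination (orbSum θ tC ^ 2 * ((θ tC : ℂ) - (θ zC : ℂ))) * he2
    rw [Finset.sum_congr rfl fun θ _ => this θ]
    simp only [Finset.sum_add_distrib, ← Finset.mul_sum, Finset.sum_sub_distrib, hquad, hlin, hzero _ htC1,
      hzero _ hzC1]
    rw [show (tC : G) = t from rfl, show (zC : G) = z₀⁻¹ from rfl, hcount1, hcount0, hcount2, hcount3]
    push_cast
    field_simp
    ring
  rw [heval] at hdiffsum
  -- an integer equation
  set X : ℤ := ε * ((m - 1 : ℕ) : ℤ) + 2 * κ with hX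
  have hd0 : (d : ℂ) ≠ 0 := by rw [← hdeg F.zeroIx]; exact H12.irr_apply_one_ne_zero _
  have heqC : (Nat.card G : ℂ) * (X : ℂ) = (d : ℂ) * (((m - 1 : ℕ) : ℂ) * (Nat.card C : ℂ)) := by
    have he2 : (ε : ℂ) * (ε : ℂ) = 1 := by rcases hε with h | h <;> simp [h]
    rw [Nat.cast_mul, Nat.cast_pow] at hdiffsum
    field_simp at hdiffsum
    rw [hX]
    push_cast
    linear_combination hdiffsum - 2 * (Nat.card G : ℂ) * (κ : ℂ) * he2
  have heq : (Nat.card G : ℤ) * X = (d : ℤ) * (((m - 1 : ℕ) : ℤ) * (Nat.card C : ℤ)) := by exact_mod_cast heqC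
  have hdpos : 0 < d := by rw [hd']; exact H12.irr_degree_pos _
  have hC0 : 0 < Nat.card C := Nat.card_pos
  have hG0 : 0 < Nat.card G := Nat.card_pos
  have hX1 : 1 ≤ X := by
    by_contra h
    have h1 : (Nat.card G : ℤ) * X ≤ 0 := mul_nonpos_of_nonneg_of_nonpos (by positivity) (by omega)
    have h2 : (0 : ℤ) < (d : ℤ) * (((m - 1 : ℕ) : ℤ) * (Nat.card C : ℤ)) := by
      have : 0 < m - 1 := by omega
      positivity
    omega
  have hle : Nat.card G ≤ d * ((m - 1) * Nat.card C) := by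
    have : (Nat.card G : ℤ) ≤ (Nat.card G : ℤ) * X := le_mul_of_one_le_right (by positivity) hX1
    rw [heq] at this
    exact_mod_cast this
  -- sum of squares
  have hsq : F.w * d ^ 2 ≤ Nat.card G := by
    rw [← H12.sum_degree_sq_nat]
    have h1 : ∀ s, H12.degree (F.mu s : G → ℂ) = d := fun s => by
      have := hdeg s
      rw [H12.irr_apply_one] at this
      exact_mod_cast this
    calc F.w * d ^ 2 = ∑ χ ∈ (Finset.univ : Finset (Fin F.w)).image F.mu, H12.degree (χ : G → ℂ) ^ 2 := by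
          rw [Finset.sum_image (fun a _ b _ h => F.mu_inj h)]; simp [h1]
      _ ≤ _ := Finset.sum_le_sum_of_subset (Finset.subset_univ _)
  -- the order of the group
  have hG : Nat.card G = (nT T).index * (m * Nat.card C) := by
    rw [← hN, hd.normalizer_cT, mul_comm, Subgroup.card_mul_index]
  have hdw : d * F.w ≤ (m - 1) * Nat.card C := Nat.le_of_mul_le_mul_left (by
    calc d * (d * F.w) = F.w * d ^ 2 := by ring
      _ ≤ _ := hsq
      _ ≤ _ := hle) hdpos
  have hid : (nT T).index < d := by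
    by_contra h
    have h1 : d * (m * Nat.card C) ≤ d * ((m - 1) * Nat.card C) :=
      le_trans (Nat.mul_le_mul_right _ (by omega)) (hG ▸ hle)
    have h2 := Nat.le_of_mul_le_mul_left h1 hdpos
    have h3 : (m - 1) * Nat.card C < m * Nat.card C := (Nat.mul_lt_mul_right hC0).2 (by omega)
    omega
  have h4 : Nat.card C * F.w ≤ (m - 1) * Nat.card C :=
    le_trans (Nat.mul_le_mul_right _ (by have := hd.card_cT_lt; omega)) hdw
  rw [mul_comm (m - 1)] at h4
  have := Nat.le_of_mul_le_mul_left h4 hC0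
  omega

theorem Tight.caData (hd : Tight T) : ¬ IsCyclic (T : Subgroup G) ∧ ¬ (T : Subgroup G).Normal ∧
    ∀ t : G, orderOf t = 2 → IsMulCommutative (Subgroup.centralizer ({t} : Set G)) ∧
      ∀ c ∈ Subgroup.centralizer ({t} : Set G), c ^ 2 = 1 := by
  refine ⟨hd.nc, hd.nn, fun t ht => ⟨hd.cent t ht, fun c hc => ?_⟩⟩
  obtain ⟨z, hzT, hz⟩ := hd.exists_invol
  obtain ⟨g, hg⟩ := isConj_iff.mp (H67.se_isConj hd.stronglyEmbedded hz ht)
  rw [Subgroup.mem_centralizer_singleton_iff, ← hg] at hc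
  have hcC : g⁻¹ * c * g ∈ C := by
    rw [← hd.centralizer_eq hzT hz, Subgroup.mem_centralizer_singleton_iff]
    calc g⁻¹ * c * g * z = g⁻¹ * (c * (g * z * g⁻¹)) * g := by simp [mul_assoc]
      _ = g⁻¹ * ((g * z * g⁻¹) * c) * g := by rw [hc]
      _ = z * (g⁻¹ * c * g) := by simp [mul_assoc]
  have h := hd.sq_eq_one _ hcC
  have e : c = g * (g⁻¹ * c * g) * g⁻¹ := by simp [mul_assoc]
  rw [e, conj_pow, h, mul_one, mul_inv_cancel]

end H39.AIC
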