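import Mathlib
import Cfsg.Agent.H39.AIC.Elementary
import Cfsg.Agent.H67.CAIdent
import Cfsg.Agent.H39.MinSimple
import Cfsg.Agent.H39.SL2Multiplier
import Cfsg.Agent.H39.Dickson
import Cfsg.Agent.H39.SolubilizerUnipotent

/-!
Groups with abelian involution centralisers are `SL(2, 2^n) × A`.
-/

set_option autoImplicit false
set_option maxHeartbeats 1600000

namespace H39.AIC

open Subgroup
open scoped commutatorElement

universe u

section psl

variable {F : Type*} [Field F] [Fintype F] [CharP F 2]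

local notation "G2" => Matrix.ProjectiveSpecialLinearGroup (Fin 2) F
local notation "qq" => Fintype.card F

theorem neg_eq_self (g : Matrix.SpecialLinearGroup (Fin 2) F) : -g = g :=
  Subtype.ext (Matrix.ext fun i j => by
    rw [Matrix.SpecialLinearGroup.coe_neg, Matrix.neg_apply]
    exact CharTwo.neg_eq _)

theorem proj_bijective : Function.Bijective ((proj : Matrix.SpecialLinearGroup (Fin 2) F →* _)) :=
  ⟨fun g h e => by
    rcases proj_eq_proj_iff.1 e with e' | e'
    · exact e'.symm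
    · rw [e', neg_eq_self], proj_surjective⟩

/-- A lower unitriangular element. -/
def lowEl (t : F) : Matrix.SpecialLinearGroup (Fin 2) F :=
  ⟨!![1, 0; t, 1], by simp [Matrix.det_fin_two]⟩

theorem orderOf_transl {t : F} (ht : t ≠ 0) : orderOf (transl t) = 2 :=
  haveI : Fact (Nat.Prime 2) := ⟨Nat.prime_two⟩
  orderOf_eq_prime (transl_pow_char 2 t) (transl_ne_one ht)

theorem orderOf_lowEl {t : F} (ht : t ≠ 0) : orderOf (proj (lowEl t)) = 2 := by
  haveI : Fact (Nat.Prime 2) := ⟨Nat.prime_two⟩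
  refine orderOf_eq_prime ?_ ?_
  · rw [← map_pow, show lowEl t ^ 2 = 1 from ?_, map_one]
    rw [sq]
    refine Subtype.ext (Matrix.ext fun i j => ?_)
    show ((lowEl t).1 * (lowEl t).1) i j = (1 : Matrix (Fin 2) (Fin 2) F) i j
    fin_cases i <;> fin_cases j <;> simp [lowEl, Matrix.mul_apply, Fin.sum_univ_two, CharTwo.add_self_eq_zero]
  · intro h
    rw [← map_one ((proj : Matrix.SpecialLinearGroup (Fin 2) F →* _)), proj_bijective.1.eq_iff] at h
    have := congrArg (fun g : Matrix.SpecialLinearGroup (Fin 2) F => g 1 0) h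
    simp [lowEl] at this
    exact ht this

theorem two_le_card_invol : 2 * (qq - 1) ≤ Nat.card {v : G2 // orderOf v = 2} := by
  classical
  let f : {t : F // t ≠ 0} ⊕ {t : F // t ≠ 0} → {v : G2 // orderOf v = 2} :=
    Sum.elim (fun t => ⟨transl t.1, orderOf_transl t.2⟩) (fun t => ⟨proj (lowEl t.1), orderOf_lowEl t.2⟩)
  have hf : Function.Injective f := by
    rintro (⟨a, ha⟩ | ⟨a, ha⟩) (⟨b, hb⟩ | ⟨b, hb⟩) h <;>
      simp only [f, Sum.elim_inl, Sum.elim_inr, Subtype.mk.injEq] at h
    · simp [transl_injective h]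
    · have := congrArg (fun g : Matrix.SpecialLinearGroup (Fin 2) F => g 0 1) (proj_bijective.1 h)
      simp [lowEl] at this
      exact absurd this ha
    · have := congrArg (fun g : Matrix.SpecialLinearGroup (Fin 2) F => g 0 1) (proj_bijective.1 h)
      simp [lowEl] at this
      exact absurd (this.symm) hb
    · have := congrArg (fun g : Matrix.SpecialLinearGroup (Fin 2) F => g 1 0) (proj_bijective.1 h)
      simp [lowEl] at this
      simp [this]
  refine le_trans (le_of_eq ?_) (Nat.card_le_card_of_injective f hf)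
  rw [Nat.card_sum, Nat.card_eq_fintype_card, Fintype.card_subtype_compl, Fintype.card_subtype_eq]
  ring

theorem even_qq : Even qq := by
  obtain ⟨n, -, hn⟩ := FiniteField.card F 2
  rw [hn]
  exact Nat.even_pow.2 ⟨even_two, n.ne_zero⟩

theorem not_transitive_odd (hq : 4 ≤ qq) (K : Subgroup G2) (hK : Odd (Nat.card K)) {s : G2}
    (h : ∀ v : G2, orderOf v = 2 → ∃ k ∈ K, k * s * k⁻¹ = v) : False := by
  haveI : Fact (Nat.Prime 2) := ⟨Nat.prime_two⟩
  have h1 : Nat.card {v : G2 // orderOf v = 2} ≤ Nat.card K := by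
    choose k hk hkv using fun v : {v : G2 // orderOf v = 2} => h v.1 v.2
    exact Nat.card_le_card_of_injective (fun v => (⟨k v, hk v⟩ : K)) fun a b e =>
      Subtype.ext (by rw [← hkv a, ← hkv b, show k a = k b from congrArg Subtype.val e])
  have h2 := two_le_card_invol (F := F)
  have hg : Nat.gcd 2 (qq - 1) = 1 := by
    refine Nat.coprime_two_left.2 (Nat.odd_iff.2 ?_)
    have := Nat.even_iff.1 (even_qq (F := F))
    omega
  have hsmall : Nat.card K ≤ qq + 1 → False := fun h => by omega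
  have hne : ∀ c : ℕ, 2 ∣ c → c ∣ Nat.card K → False := fun c hc hd =>
    Nat.not_even_iff_odd.2 hK (even_iff_two_dvd.2 (hc.trans hd))
  cases dickson 2 K with
  | cyclic hc hk =>
    apply hsmall
    rw [hg, Nat.div_one, Nat.div_one] at hk
    rcases hk with hk | hk <;> have := Nat.le_of_dvd (by omega) hk <;> omega
  | dihedral k e hk =>
    exact hne _ dvd_rfl (by rw [Nat.card_congr e.some.toEquiv, DihedralGroup.nat_card]; exact dvd_mul_right 2 k)
  | borel P hle hz =>
    have h3 := card_dvd_of_le hle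
    rw [card_map_of_injective (f := (cjP P).toMonoidHom) (cjP P).injective, card_borelP, hg, Nat.div_one] at h3
    have h4 : Nat.card K ∣ qq - 1 := by
      obtain ⟨n, -, hn⟩ := FiniteField.card F 2
      rw [hn] at h3 ⊢
      exact ((Nat.coprime_two_right.2 hK).pow_right _).dvd_of_dvd_mul_left h3
    have := Nat.le_of_dvd (by omega) h4
    omega
  | a4 e =>
    exact hne 12 (by norm_num) (by
      rw [Nat.card_congr e.some.toEquiv, nat_card_alternatingGroup, Nat.card_fin]; decide)
  | s4 e =>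
    exact hne 24 (by norm_num) (by
      rw [Nat.card_congr e.some.toEquiv, Nat.card_perm, Nat.card_fin]; decide)
  | a5 e =>
    exact hne 60 (by norm_num) (by
      rw [Nat.card_congr e.some.toEquiv, nat_card_alternatingGroup, Nat.card_fin]; decide)
  | field P L hle he =>
    haveI : CharP L 2 := Subfield.charP L 2
    haveI : Fintype L := Fintype.ofFinite _
    have hinv : ∃ v : Matrix.ProjectiveSpecialLinearGroup (Fin 2) L, orderOf v = 2 :=
      ⟨transl 1, orderOf_transl one_ne_zero⟩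
    rcases he with e | e
    · refine hne _ ?_ dvd_rfl
      rw [Nat.card_congr e.some.toEquiv, H42.card_PGL2_subfield]
      refine dvd_mul_of_dvd_left ?_ _
      rw [Nat.card_eq_fintype_card]
      exact (even_qq (F := L)).two_dvd
    · obtain ⟨v, hv⟩ := hinv
      refine hne _ ?_ dvd_rfl
      rw [Nat.card_congr e.some.toEquiv]
      exact (dvd_of_eq hv.symm).trans (orderOf_dvd_natCard v)

end psl

/-- A central extension by an odd group of `PSL(2, 2 ^ n)`. -/
def Result (G : Type u) [Group G] : Prop :=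
  ∃ (F : Type) (_ : Field F) (_ : Fintype F) (φ : G →* Matrix.ProjectiveSpecialLinearGroup (Fin 2) F),
    CharP F 2 ∧ 4 ≤ Fintype.card F ∧ Function.Surjective φ ∧ φ.ker ≤ Subgroup.center G ∧ Odd (Nat.card φ.ker)

variable {G : Type u} [Group G] [Finite G]

/-- A lift of an involution through a homomorphism with kernel of odd order. -/
theorem exists_invol_lift {L : Type*} [Group L] (φ : G →* L) (hodd : Odd (Nat.card φ.ker))
    (hs : Function.Surjective φ) {v : L} (hv : orderOf v = 2) : ∃ x : G, orderOf x = 2 ∧ φ x = v := by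
  obtain ⟨x, rfl⟩ := hs v
  refine ⟨x ^ Nat.card φ.ker, ?_, ?_⟩
  · haveI : Fact (Nat.Prime 2) := ⟨Nat.prime_two⟩
    refine orderOf_eq_prime ?_ fun h => ?_
    · have h2 : x ^ 2 ∈ φ.ker := by rw [MonoidHom.mem_ker, map_pow, ← hv, pow_orderOf_eq_one]
      rw [← pow_mul, mul_comm, pow_mul]
      exact congrArg Subtype.val (pow_card_eq_one' (x := (⟨x ^ 2, h2⟩ : φ.ker)))
    · have := congrArg φ h
      rw [map_pow, map_one] at this
      have hd := orderOf_dvd_of_pow_eq_one this
      rw [hv] at hd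
      exact Nat.not_even_iff_odd.2 hodd (even_iff_two_dvd.2 hd)
  · obtain ⟨k, hk⟩ := hodd
    rw [map_pow, hk, pow_succ, pow_mul, show φ x ^ 2 = 1 by rw [← hv, pow_orderOf_eq_one], one_pow, one_mul]

theorem Data.result_of_center {T : Sylow 2 G} (hd : Data T)
    (IH : ∀ (M : Type u) [Group M] [Finite M] (S : Sylow 2 M), Nat.card M < Nat.card G → Data S → Result M)
    (hZ : Subgroup.center G ≠ ⊥) : Result G := by
  classical
  haveI : Fact (Nat.Prime 2) := ⟨Nat.prime_two⟩
  set Z := Subgroup.center G with hZdef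
  have hZc : ∀ z ∈ Z, ∀ g : G, z * g = g * z := fun z hz g => ((Subgroup.mem_center_iff.1 hz) g).symm
  have hZodd : Odd (Nat.card Z) := odd_iff_no_invol.2 fun z hz hz2 => hd.nn (by
    refine ⟨fun t ht g => ?_⟩
    have hcomm : ∀ a b : G, a * b = b * a := fun a b =>
      comm_of (hd.cent z hz2) (hZc z hz a).symm (hZc z hz b).symm
    rw [hcomm g t, mul_inv_cancel_right]
    exact ht)
  set π := QuotientGroup.mk' Z with hπ
  have hsurj : Function.Surjective π := QuotientGroup.mk'_surjective _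
  have hker : π.ker = Z := QuotientGroup.ker_mk' Z
  have hinj : ∀ a ∈ (T : Subgroup G), π a = 1 → a = 1 := by
    intro a ha h
    rw [← MonoidHom.mem_ker, hker] at h
    obtain ⟨k, hk⟩ := T.isPGroup' ⟨a, ha⟩
    have h1 := orderOf_dvd_of_pow_eq_one (show a ^ 2 ^ k = 1 from congrArg Subtype.val hk)
    have h2 := Subgroup.orderOf_dvd_natCard _ h
    exact orderOf_eq_one_iff.1 (Nat.eq_one_of_dvd_coprimes
      ((Nat.coprime_two_left.2 hZodd).pow_left k) h1 h2)
  set S : Sylow 2 (G ⧸ Z) := T.mapSurjective hsurj with hS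
  have hSc : (S : Subgroup (G ⧸ Z)) = (T : Subgroup G).map π := rfl
  have hlift : ∀ (t : G), orderOf t = 2 → ∀ g : G, π g * π t = π t * π g → g * t = t * g := by
    intro t ht g hg
    have h1 : g * t * g⁻¹ * t⁻¹ ∈ Z := by
      rw [← hker, MonoidHom.mem_ker, map_mul, map_mul, map_mul, map_inv, map_inv, hg]
      simp
    set z := g * t * g⁻¹ * t⁻¹ with hz
    have h2 : g * t * g⁻¹ = z * t := by simp [hz]
    have h3 : (z * t) ^ 2 = 1 := by rw [← h2, conj_pow, ← ht, pow_orderOf_eq_one, mul_one, mul_inv_cancel]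
    rw [(show Commute z t from hZc z h1 t).mul_pow, show t ^ 2 = 1 by rw [← ht, pow_orderOf_eq_one], mul_one] at h3
    have h4 := orderOf_dvd_of_pow_eq_one h3
    have h5 := Subgroup.orderOf_dvd_natCard _ h1
    have h6 : z = 1 := orderOf_eq_one_iff.1 (Nat.eq_one_of_dvd_coprimes (Nat.coprime_two_left.2 hZodd) h4 h5)
    rw [h6, one_mul] at h2
    exact mul_inv_eq_iff_eq_mul.1 h2
  have hdata : Data S := by
    refine ⟨fun hc => hd.nc ?_, fun hn => hd.nn ?_, fun x hx => ?_⟩
    · haveI := hc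
      exact isCyclic_of_injective
        ((π.comp (T : Subgroup G).subtype).codRestrict (S : Subgroup (G ⧸ Z))
          (fun a => ⟨(a : G), a.2, rfl⟩))
        (fun a b h => by
          have h' : π (a : G) = π b := congrArg Subtype.val h
          refine Subtype.ext (mul_inv_eq_one.1 (hinj _ (mul_mem a.2 (inv_mem b.2)) ?_))
          rw [map_mul, map_inv, h', mul_inv_cancel])
    · refine ⟨fun a ha g => ?_⟩
      have h1 : π (g * a * g⁻¹) ∈ (S : Subgroup (G ⧸ Z)) := by
        rw [map_mul, map_mul, map_inv]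
        exact hn.conj_mem _ ⟨a, ha, rfl⟩ _
      obtain ⟨b, hb, hbe⟩ := h1
      obtain ⟨k, hk⟩ := T.isPGroup' ⟨a, ha⟩
      set z := b⁻¹ * (g * a * g⁻¹) with hz
      have hzZ : z ∈ Z := by rw [← hker, MonoidHom.mem_ker, hz, map_mul, map_inv, hbe, inv_mul_cancel]
      refine pgroup_mem_T ?_ (k := k) (by
        rw [conj_pow, show a ^ 2 ^ k = 1 from congrArg Subtype.val hk, mul_one, mul_inv_cancel])
      rw [show g * a * g⁻¹ = b * z by simp [hz]]
      refine mul_mem (T_le_nT hb) (cT_le_nT (Subgroup.center_le_centralizer _ hzZ))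
    · obtain ⟨t, ht, rfl⟩ := exists_invol_lift π (hker.symm ▸ hZodd) hsurj hx
      refine ⟨⟨fun a b => ?_⟩⟩
      obtain ⟨a', ha'⟩ := hsurj a.1
      obtain ⟨b', hb'⟩ := hsurj b.1
      apply Subtype.ext
      show a.1 * b.1 = b.1 * a.1
      have ea := mem_centralizer_singleton_iff.1 a.2
      have eb := mem_centralizer_singleton_iff.1 b.2
      rw [← ha'] at ea ⊢
      rw [← hb'] at eb ⊢
      rw [← map_mul, ← map_mul, comm_of (hd.cent t ht) (hlift t ht a' ea) (hlift t ht b' eb)]
  have hlt : Nat.card (G ⧸ Z) < Nat.card G := by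
    rw [← Subgroup.index_eq_card]
    have h1 := Z.card_mul_index
    have h2 : 1 < Nat.card Z := (Subgroup.one_lt_card_iff_ne_bot Z).2 hZ
    have h3 : 0 < Z.index := Nat.pos_of_ne_zero Subgroup.index_ne_zero_of_finite
    rw [← h1]
    exact (Nat.lt_mul_iff_one_lt_left h3).2 h2
  obtain ⟨F, iF, iFF, φ, hchar, hq, hφs, hφc, hφo⟩ := IH (G ⧸ Z) S hlt hdata
  set ψ := φ.comp π with hψ
  have hψs : Function.Surjective ψ := hφs.comp hsurj
  set K := ψ.ker with hK
  have hKmem : ∀ k, k ∈ K → π k ∈ φ.ker := fun k hk => hk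
  have hKT : ∀ k ∈ K, ∀ t ∈ (T : Subgroup G), k * t = t * k := by
    intro k hk t ht
    have h1 : π k * π t = π t * π k := ((Subgroup.mem_center_iff.1 (hφc (hKmem k hk))) (π t)).symm
    set z := k * t * k⁻¹ * t⁻¹ with hz
    have hzZ : z ∈ Z := by
      rw [← hker, MonoidHom.mem_ker, hz, map_mul, map_mul, map_mul, map_inv, map_inv, h1]
      simp
    have h2 : k * t * k⁻¹ = z * t := by simp [hz]
    obtain ⟨e, he⟩ := T.isPGroup' ⟨t, ht⟩
    have he' : t ^ 2 ^ e = 1 := congrArg Subtype.val he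
    have h3 : (z * t) ^ 2 ^ e = 1 := by rw [← h2, conj_pow, he', mul_one, mul_inv_cancel]
    rw [(show Commute z t from hZc z hzZ t).mul_pow, he', mul_one] at h3
    have h6 : z = 1 := orderOf_eq_one_iff.1 (Nat.eq_one_of_dvd_coprimes
      ((Nat.coprime_two_left.2 hZodd).pow_left e) (orderOf_dvd_of_pow_eq_one h3)
      (Subgroup.orderOf_dvd_natCard _ hzZ))
    rw [h6, one_mul] at h2
    exact mul_inv_eq_iff_eq_mul.1 h2
  have hKC : K ≤ cT T := fun k hk => Subgroup.mem_centralizer_iff.2 fun t ht => (hKT k hk t ht).symm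
  set L := Subgroup.normalClosure ((T : Subgroup G) : Set G) with hL
  have hLK : ∀ k ∈ K, ∀ l ∈ L, k * l = l * k := by
    intro k hk l hl
    have hle : L ≤ Subgroup.centralizer (K : Set G) := by
      refine (Subgroup.closure_le _).2 ?_
      rintro x hx
      obtain ⟨t, ht, hc⟩ := Group.mem_conjugatesOfSet_iff.1 hx
      obtain ⟨g, rfl⟩ := isConj_iff.1 hc
      rw [SetLike.mem_coe, Subgroup.mem_centralizer_iff]
      intro k hk
      have hk' : g⁻¹ * k * g ∈ K := by
        have := (MonoidHom.normal_ker ψ).conj_mem k hk g⁻¹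
        rwa [inv_inv] at this
      have h := hKT (g⁻¹ * k * g) hk' t ht
      calc k * (g * t * g⁻¹) = g * (g⁻¹ * k * g * t) * g⁻¹ := by simp [mul_assoc]
        _ = g * (t * (g⁻¹ * k * g)) * g⁻¹ := by rw [h]
        _ = g * t * g⁻¹ * k := by simp [mul_assoc]
    exact (Subgroup.mem_centralizer_iff.1 (hle hl) k hk)
  have hLtop : L.map ψ = ⊤ := by
    haveI := G2_simple (F := F) hq
    refine ((Subgroup.normalClosure_normal.map ψ hψs).eq_bot_or_eq_top).resolve_left fun h => ?_
    obtain ⟨s, hsT, hs⟩ := hd.exists_invol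
    have hsK : s ∈ K := by
      have : ψ s ∈ L.map ψ := ⟨s, Subgroup.subset_normalClosure hsT, rfl⟩
      rw [h, Subgroup.mem_bot] at this
      exact this
    have h2 := Subgroup.orderOf_dvd_natCard _ (hKmem s hsK)
    have h3 : orderOf (π s) = 2 := by
      refine orderOf_eq_prime (by rw [← map_pow, ← hs, pow_orderOf_eq_one, map_one]) fun e => ?_
      rw [hinj s hsT e, orderOf_one] at hs
      omega
    rw [h3] at h2
    exact Nat.not_even_iff_odd.2 hφo (even_iff_two_dvd.2 h2)
  refine ⟨F, iF, iFF, ψ, hchar, hq, hψs, fun k hk => ?_, ?_⟩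
  · rw [Subgroup.mem_center_iff]
    intro g
    have : ψ g ∈ L.map ψ := hLtop ▸ mem_top _
    obtain ⟨l, hl, hlg⟩ := this
    have hg : l⁻¹ * g ∈ K := by rw [hK, MonoidHom.mem_ker, map_mul, map_inv, hlg, inv_mul_cancel]
    have h1 := hd.cT_comm (hKC hk) (hKC hg)
    have h2 := hLK k hk l hl
    calc g * k = l * ((l⁻¹ * g) * k) := by simp [mul_assoc]
      _ = l * (k * (l⁻¹ * g)) := by rw [h1]
      _ = (l * k) * (l⁻¹ * g) := by rw [mul_assoc]
      _ = (k * l) * (l⁻¹ * g) := by rw [h2]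
      _ = k * g := by simp [mul_assoc]
  · refine odd_iff_no_invol.2 fun s hs hs2 => ?_
    have h2 := Subgroup.orderOf_dvd_natCard _ (hKmem s hs)
    have h3 : orderOf (π s) = 2 := by
      refine orderOf_eq_prime (by rw [← map_pow, ← hs2, pow_orderOf_eq_one, map_one]) fun e => ?_
      rw [← MonoidHom.mem_ker, hker] at e
      exact odd_iff_no_invol.1 hZodd s e hs2
    rw [h3] at h2
    exact Nat.not_even_iff_odd.2 hφo (even_iff_two_dvd.2 h2)

theorem Data.result_of_center_bot {T : Sylow 2 G} (hd : Data T)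
    (IH : ∀ (M : Type u) [Group M] [Finite M] (S : Sylow 2 M), Nat.card M < Nat.card G → Data S → Result M)
    (hZ : Subgroup.center G = ⊥) : Result G := by
  classical
  haveI : Fact (Nat.Prime 2) := ⟨Nat.prime_two⟩
  by_cases hA : ∀ a ∈ cT T, Odd (orderOf a) → a ≠ 1 → Subgroup.centralizer ({a} : Set G) ≤ nT T
  · haveI : Fintype G := Fintype.ofFinite G
    obtain ⟨h1, h2, h3⟩ := (Tight.mk hd hA).caData
    obtain ⟨F, iF, iFF, hc, ⟨e⟩⟩ := (H67.CAData.mk h1 h2 h3).exists_iso_PSL
    obtain ⟨k, hk⟩ := IsPGroup.iff_card.1 T.isPGroup'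
    have hq : 4 ≤ Fintype.card F := hc ▸ (H67.CAData.mk h1 h2 h3).four_le_card
    haveI : CharP F 2 := charP_of_card_eq_prime_pow (f := k) (by rw [hc]; exact hk)
    refine ⟨F, iF, iFF, e.toMonoidHom, inferInstance, hq, e.surjective, ?_, ?_⟩
    · rw [(MonoidHom.ker_eq_bot_iff _).2 e.injective]; exact bot_le
    · rw [(MonoidHom.ker_eq_bot_iff _).2 e.injective, Subgroup.card_bot]; exact odd_one
  exfalso
  push Not at hA
  obtain ⟨a, haC, hao, ha1, hnle⟩ := hA
  set M := Subgroup.centralizer ({a} : Set G) with hM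
  have hTM : (T : Subgroup G) ≤ M := fun t ht =>
    mem_centralizer_singleton_iff.2 (Subgroup.mem_centralizer_iff.1 haC t ht)
  have hCM : cT T ≤ M := fun c hc => mem_centralizer_singleton_iff.2 (hd.cT_comm hc haC)
  have hMtop : M ≠ ⊤ := fun h => by
    apply ha1
    rw [← Subgroup.mem_bot, ← hZ, Subgroup.mem_center_iff]
    exact fun g => mem_centralizer_singleton_iff.1 (h ▸ mem_top g : g ∈ M)
  let S : Sylow 2 M := T.subtype hTM
  have hSmem : ∀ x : M, x ∈ (S : Subgroup M) ↔ (x : G) ∈ (T : Subgroup G) := fun x => Iff.rfl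
  have hdata : Data S := by
    refine ⟨fun hc => hd.nc ?_, fun hn => hnle fun g hg => ?_, fun x hx => ?_⟩
    · haveI := hc
      exact isCyclic_of_injective
        ((Subgroup.inclusion hTM).codRestrict (S : Subgroup M) (fun t => (hSmem _).2 t.2))
        (fun a b h => Subgroup.inclusion_injective hTM (congrArg Subtype.val h))
    · rw [mem_normalizer_iff_map_conj_eq]
      refine eq_of_le_of_card_ge ?_ (card_map_of_injective (MulAut.conj g).injective).ge
      rintro _ ⟨t, ht, rfl⟩
      exact (hSmem _).1 (hn.conj_mem ⟨t, hTM ht⟩ ((hSmem _).2 ht) ⟨g, hg⟩)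
    · refine ⟨⟨fun p r => Subtype.ext (Subtype.ext ?_)⟩⟩
      exact comm_of (hd.cent (x : G) (by rwa [Subgroup.orderOf_coe]))
        (congrArg Subtype.val (mem_centralizer_singleton_iff.1 p.2))
        (congrArg Subtype.val (mem_centralizer_singleton_iff.1 r.2))
  have hcardM : Nat.card M < Nat.card G := by
    refine lt_of_le_of_ne (Nat.le_of_dvd Nat.card_pos M.card_subgroup_dvd_card) fun h => hMtop ?_
    exact (Subgroup.card_eq_iff_eq_top M).1 h
  obtain ⟨F, iF, iFF, φ, hchar, hq, hφs, -, hφo⟩ := IH M S hcardM hdata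
  obtain ⟨z, hzT, hz⟩ := hd.exists_invol
  -- `M` is strongly embedded
  set zM : M := ⟨z, hTM hzT⟩
  have hzM : orderOf zM = 2 := by rw [← Subgroup.orderOf_coe]; exact hz
  have hconjM : ∀ s : G, orderOf s = 2 → s ∈ M → ∃ m ∈ M, m * z * m⁻¹ = s := by
    intro s hs hsM
    obtain ⟨m, hm⟩ := isConj_iff.1 (H67.se_isConj hdata.stronglyEmbedded hzM
      (b := (⟨s, hsM⟩ : M)) (by rw [← Subgroup.orderOf_coe]; exact hs))
    exact ⟨m.1, m.2, congrArg Subtype.val hm⟩
  have hMse : Cfsg.IsStronglyEmbedded M := by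
    rw [H65.se_iff hMtop (H65.even_card_of_mem (hTM hzT) hz)]
    intro s g hs hsM hg
    obtain ⟨m₁, hm₁, e₁⟩ := hconjM s hs hsM
    obtain ⟨m₂, hm₂, e₂⟩ := hconjM _ (by simpa using H67.invol_conj hs g⁻¹) hg
    have hc : m₁⁻¹ * g * m₂ ∈ Subgroup.centralizer ({z} : Set G) := by
      rw [mem_centralizer_singleton_iff]
      calc m₁⁻¹ * g * m₂ * z = m₁⁻¹ * g * (m₂ * z * m₂⁻¹) * m₂ := by simp [mul_assoc]
        _ = m₁⁻¹ * g * (g⁻¹ * s * g) * m₂ := by rw [e₂]
        _ = m₁⁻¹ * s * g * m₂ := by simp [mul_assoc]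
        _ = m₁⁻¹ * (m₁ * z * m₁⁻¹) * g * m₂ := by rw [e₁]
        _ = z * (m₁⁻¹ * g * m₂) := by simp [mul_assoc]
    rw [hd.centralizer_eq hzT hz] at hc
    have := mul_mem (mul_mem hm₁ (hCM hc)) (inv_mem hm₂)
    simpa [mul_assoc] using this
  obtain ⟨u, hu, huM⟩ := H67.se_exists_invol_not_mem hMse
  set D := M ⊓ M.map (MulAut.conj u).toMonoidHom
  have hDodd : Odd (Nat.card D) := hMse.2.2 u huM
  set K := (D.subgroupOf M).map φ
  have hKodd : Odd (Nat.card K) := by
    refine hDodd.of_dvd_nat ((Subgroup.card_map_dvd _ φ).trans (dvd_of_eq ?_))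
    exact Nat.card_congr (subgroupOfEquivOfLe inf_le_left).toEquiv
  haveI := hchar
  refine not_transitive_odd hq K hKodd (s := φ zM) fun v hv => ?_
  obtain ⟨x, hx, rfl⟩ := exists_invol_lift φ hφo hφs hv
  obtain ⟨d, hdM, hdu, -, he⟩ := H67.exists_inverted_conj hMse hu huM hz (hTM hzT)
    (t := (x : G)) (by rwa [Subgroup.orderOf_coe]) x.2
  refine ⟨φ ⟨d, hdM⟩, ⟨⟨d, hdM⟩, H65.mem_inf_conj.2 ⟨hdM, hdu⟩, rfl⟩, ?_⟩
  rw [← map_inv, ← map_mul, ← map_mul]
  exact congrArg φ (Subtype.ext he)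

theorem result_of_data : ∀ (n : ℕ) (G : Type u) [Group G] [Finite G] (T : Sylow 2 G),
    Nat.card G = n → Data T → Result G := by
  intro n
  induction n using Nat.strong_induction_on with
  | _ n ih =>
    intro G _ _ T hn hd
    have IH : ∀ (M : Type u) [Group M] [Finite M] (S : Sylow 2 M),
        Nat.card M < Nat.card G → Data S → Result M := fun M _ _ S hlt hS =>
      ih (Nat.card M) (hn ▸ hlt) M S rfl hS
    by_cases hZ : Subgroup.center G = ⊥
    · exact hd.result_of_center_bot IH hZ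
    · exact hd.result_of_center IH hZ

/-- A central extension of `PSL(2, 2 ^ n)` with kernel of odd order is a direct product. -/
theorem split_of_result (h : Result G) :
    ∃ (F : Type) (_ : Field F) (_ : Fintype F) (K : Subgroup G), CharP F 2 ∧ Odd (Nat.card K) ∧
      (∀ a ∈ K, ∀ b : G, a * b = b * a) ∧
      Nonempty (G ≃* Matrix.SpecialLinearGroup (Fin 2) F × K) := by
  classical
  obtain ⟨F, iF, iFF, φ, hchar, hq, hφs, hφc, hφo⟩ := h
  haveI := hchar
  haveI hsimp := G2_simple (F := F) hq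
  set K := φ.ker
  have hKc : ∀ a ∈ K, ∀ b : G, a * b = b * a := fun a ha b => ((Subgroup.mem_center_iff.1 (hφc ha)) b).symm
  set R := commutator G with hR
  have hRmap : R.map φ = ⊤ := by
    rw [hR, _root_.commutator_def, Subgroup.map_commutator, Subgroup.map_top_of_surjective φ hφs, ← _root_.commutator_def]
    refine (Subgroup.Normal.eq_bot_or_eq_top (H := commutator _) inferInstance).resolve_left fun h => ?_
    refine G2_not_solvable (F := F) hq (isSolvable_of_comm fun a b => ?_)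
    rw [← commutatorElement_eq_one_iff_mul_comm, ← Subgroup.mem_bot, ← h]
    exact Subgroup.commutator_mem_commutator (mem_top a) (mem_top b)
  have hdec : ∀ g : G, ∃ r ∈ R, ∃ k ∈ K, g = r * k := by
    intro g
    obtain ⟨r, hr, e⟩ := (hRmap ▸ mem_top _ : φ g ∈ R.map φ)
    exact ⟨r, hr, r⁻¹ * g, by simp [K, MonoidHom.mem_ker, e], by simp⟩
  -- `R` is perfect
  have hperf : R ≤ ⁅R, R⁆ := by
    conv_lhs => rw [hR, _root_.commutator_def]
    rw [Subgroup.commutator_le]
    intro g _ h _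
    obtain ⟨r, hr, k, hk, rfl⟩ := hdec g
    obtain ⟨s, hs, l, hl, rfl⟩ := hdec h
    have : ⁅r * k, s * l⁆ = ⁅r, s⁆ := by
      simp only [commutatorElement_def, mul_inv_rev]
      have h1 : ∀ x, k * x = x * k := hKc k hk
      have h2 : ∀ x, l * x = x * l := hKc l hl
      calc r * k * (s * l) * (k⁻¹ * r⁻¹) * (l⁻¹ * s⁻¹)
          = r * (k * (s * l)) * k⁻¹ * r⁻¹ * l⁻¹ * s⁻¹ := by simp [mul_assoc]
        _ = r * ((s * l) * k) * k⁻¹ * r⁻¹ * l⁻¹ * s⁻¹ := by rw [h1]
        _ = r * s * (l * r⁻¹) * l⁻¹ * s⁻¹ := by simp [mul_assoc]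
        _ = r * s * (r⁻¹ * l) * l⁻¹ * s⁻¹ := by rw [h2]
        _ = r * s * r⁻¹ * s⁻¹ := by simp [mul_assoc]
    rw [this]
    exact Subgroup.commutator_mem_commutator hr hs
  have hRcomm : commutator R = ⊤ := by
    rw [eq_top_iff]
    intro x _
    have hx := hperf x.2
    have e : (commutator R).map R.subtype = ⁅R, R⁆ := by
      rw [_root_.commutator_def, Subgroup.map_commutator, ← MonoidHom.range_eq_map, Subgroup.range_subtype]
    rw [← e] at hx
    obtain ⟨y, hy, hy'⟩ := hx
    rwa [← Subtype.ext hy']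
  -- the stem extension
  let e₀ : Matrix.SpecialLinearGroup (Fin 2) F ≃* Matrix.ProjectiveSpecialLinearGroup (Fin 2) F :=
    MulEquiv.ofBijective ((proj : Matrix.SpecialLinearGroup (Fin 2) F →* _)) proj_bijective
  let σ : R →* Matrix.SpecialLinearGroup (Fin 2) F := e₀.symm.toMonoidHom.comp (φ.comp R.subtype)
  have hσmem : ∀ x : R, x ∈ σ.ker ↔ (x : G) ∈ K := fun x => by
    simp [σ, K, MonoidHom.mem_ker]
  have hσ : Cfsg.IsStemExtension σ := by
    refine ⟨?_, ?_, by rw [hRcomm]; exact le_top⟩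
    · intro y
      obtain ⟨r, hr, e⟩ := (hRmap ▸ mem_top _ : e₀ y ∈ R.map φ)
      exact ⟨⟨r, hr⟩, by simp [σ, e]⟩
    · intro x hx
      rw [Subgroup.mem_center_iff]
      exact fun y => Subtype.ext (hKc _ ((hσmem x).1 hx) y).symm
  have hker : σ.ker = ⊥ := by
    by_cases h4 : Fintype.card F = 4
    · refine H97.ker_eq_bot_of_sylow hσ fun r hr P z hz hzK hzc => ?_
      haveI := hr
      suffices h : (⟨z, hz⟩ : P) = 1 from congrArg Subtype.val h
      by_cases hr2 : r = 2
      · subst hr2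
        obtain ⟨k, hk⟩ := P.isPGroup' ⟨z, hz⟩
        have h1 := orderOf_dvd_of_pow_eq_one
          (show (z : G) ^ 2 ^ k = 1 by
            rw [← Subgroup.coe_pow, show z ^ 2 ^ k = 1 from congrArg Subtype.val hk, Subgroup.coe_one])
        have h2 := Subgroup.orderOf_dvd_natCard _ ((hσmem z).1 hzK)
        refine Subtype.ext (Subtype.ext ?_)
        exact orderOf_eq_one_iff.1 (Nat.eq_one_of_dvd_coprimes ((Nat.coprime_two_left.2 hφo).pow_left k) h1 h2)
      · refine H97.commutator_trivial_of_comm ?_ hzc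
        refine H97.commute_of_not_sq_dvd hσ.1 hσ.2.1 (fun hd => ?_) P
        have hc : Nat.card (Matrix.SpecialLinearGroup (Fin 2) F) = 60 := by
          rw [H40.card_SL2, h4]; norm_num
        rw [hc] at hd
        have hle : r * r ≤ 60 := by rw [← sq]; exact Nat.le_of_dvd (by norm_num) hd
        have : r ≤ 7 := by nlinarith
        interval_cases r <;> simp_all (config := { decide := true })
    · refine stem_ker_eq_bot (F := F) 2 h4 ?_ hσ
      obtain ⟨n, -, hn⟩ := FiniteField.card F 2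
      intro h9
      rw [hn] at h9
      have : 2 ∣ 9 := h9 ▸ dvd_pow_self 2 n.ne_zero
      omega
  have hRK : Disjoint R K := by
    rw [disjoint_iff, Subgroup.eq_bot_iff_forall]
    intro x hx
    have := (hσmem ⟨x, hx.1⟩).2 hx.2
    rw [hker, Subgroup.mem_bot] at this
    exact congrArg Subtype.val this
  refine ⟨F, iF, iFF, K, hchar, hφo, hKc, ⟨MulEquiv.symm ?_⟩⟩
  let eR : R ≃* Matrix.SpecialLinearGroup (Fin 2) F :=
    MulEquiv.ofBijective σ ⟨(MonoidHom.ker_eq_bot_iff σ).1 hker, hσ.1⟩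
  let μ : R × K →* G :=
    { toFun := fun x => (x.1 : G) * x.2
      map_one' := by simp
      map_mul' := fun x y => by
        simp only [Prod.fst_mul, Prod.snd_mul, Subgroup.coe_mul]
        rw [mul_assoc, ← mul_assoc (y.1 : G), ← hKc x.2 x.2.2 (y.1 : G)]
        simp [mul_assoc] }
  exact ((MulEquiv.prodCongr eR.symm (MulEquiv.refl K)).trans (MulEquiv.ofBijective μ
    ⟨Subgroup.mul_injective_of_disjoint hRK, fun g => by
      obtain ⟨r, hr, k, hk, rfl⟩ := hdec g
      exact ⟨(⟨r, hr⟩, ⟨k, hk⟩), rfl⟩⟩))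

end H39.AIC
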